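import Mathlib

/-!
# p-groups of maximal class: definitions for the S3806 pipeline (design: helper21)

`K Y i` is the `i`-th term `γ_i(Y)` of the lower central series in the usual 1-based numbering
(`K Y 1 = ⊤`, `K Y 2 = [Y,Y]`, ...).  `Cong Y D a b` is congruence modulo `K Y (D+1)`.
`InM Y i g` says that `g` lies in the two-step centralizer of `K_i / K_{i+2}`.
-/

set_option autoImplicit false

namespace Cfsg.Agent.Helper21.MC

open scoped commutatorElement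

/-- `γ_i(Y)`, 1-based (`K Y 0 = K Y 1 = ⊤`). -/
def K (Y : Type*) [Group Y] (i : ℕ) : Subgroup Y := (⊤ : Subgroup Y).lowerCentralSeries (i - 1)

/-- congruence modulo `K Y (D+1)` -/
def Cong (Y : Type*) [Group Y] (D : ℕ) (a b : Y) : Prop := a⁻¹ * b ∈ K Y (D + 1)

/-- `g` centralizes `K_i / K_{i+2}` -/
def InM (Y : Type*) [Group Y] (i : ℕ) (g : Y) : Prop := ∀ a ∈ K Y i, ⁅a, g⁆ ∈ K Y (i + 2)

/-- `Y` is a group of order `p ^ n` and nilpotency class `n - 1` -/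
def IsMC (p n : ℕ) (Y : Type*) [Group Y] : Prop :=
  Nat.card Y = p ^ n ∧ Group.nilpotencyClass Y = n - 1

/-- `e_2 = [y,x]`, `e_{i+1} = [e_i, x]` -/
def eSeq {Y : Type*} [Group Y] (x y : Y) : ℕ → Y
  | 0 => 1
  | 1 => 1
  | 2 => ⁅y, x⁆
  | (i + 3) => ⁅eSeq x y (i + 2), x⁆

/-- `[x, s, s, ..., s]` (`m` copies of `s`) -/
def iterComm {Y : Type*} [Group Y] (x s : Y) : ℕ → Y
  | 0 => x
  | (m + 1) => ⁅iterComm x s m, s⁆

/-- `Q_m` with `(x * s) ^ m = Q_m * s ^ m` -/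
def qProd {Y : Type*} [Group Y] (x s : Y) : ℕ → Y
  | 0 => 1
  | (m + 1) => x * (s * qProd x s m * s⁻¹)

/-- the hypotheses of the key step: `t` is the first index whose two-step centralizer differs
from `M_2`, and `t ≤ n - 3` -/
structure KeyHyp (p n t : ℕ) (Y : Type*) [Group Y] (x y : Y) : Prop where
  mc : IsMC p n Y
  podd : p ≠ 2
  ht3 : 3 ≤ t
  htn : t + 3 ≤ n
  heq : ∀ i, 2 ≤ i → i < t → ∀ g, InM Y i g ↔ InM Y 2 g
  hx : InM Y t x
  hx2 : ¬ InM Y 2 x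
  hy : InM Y 2 y
  hyt : ¬ InM Y t y

/-- `s` is a uniform element: it lies in no two-step centralizer -/
def IsUniform (n : ℕ) (Y : Type*) [Group Y] (s : Y) : Prop :=
  ∀ i, 2 ≤ i → i + 2 ≤ n → ¬ InM Y i s

end Cfsg.Agent.Helper21.MC
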