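import Mathlib
import Cfsg.Agent.Lib.MC.MCDefs
import Cfsg.Agent.Lib.Helper13.MANNITER

/-!
# PIECE MC-K: basic properties of `K Y i = γ_i(Y)` (small)

Recipe: unfold `K`; `Subgroup.lowerCentralSeries_succ`, `Subgroup.lowerCentralSeries_antitone`,
`Subgroup.lowerCentralSeries_normal`; `K_comm_le` is
`Cfsg.Agent.Helper10.Mann.lcs_comm_lcs_le (i-1) (j-1)` up to index arithmetic.
-/

set_option autoImplicit false

namespace Cfsg.Agent.Helper21.MC

open scoped commutatorElement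

variable {Y : Type*} [Group Y]

theorem K_one : K Y 1 = ⊤ := by
  unfold K
  rfl

theorem K_succ (i : ℕ) (hi : 1 ≤ i) : K Y (i + 1) = ⁅K Y i, (⊤ : Subgroup Y)⁆ := by
  unfold K
  obtain ⟨j, rfl⟩ : ∃ j, i = j + 1 := ⟨i - 1, by omega⟩
  rw [show j + 1 + 1 - 1 = j + 1 by omega, show j + 1 - 1 = j by omega, Subgroup.lowerCentralSeries_succ]

theorem K_antitone : Antitone (K Y) := by
  intro i j hij
  unfold K
  exact Subgroup.lowerCentralSeries_antitone (⊤ : Subgroup Y) (by omega)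

instance K_normal (i : ℕ) : (K Y i).Normal := by
  unfold K
  infer_instance

theorem K_comm_le (i j : ℕ) (hi : 1 ≤ i) (hj : 1 ≤ j) : ⁅K Y i, K Y j⁆ ≤ K Y (i + j) := by
  unfold K
  have h := Cfsg.Agent.Helper10.Mann.lcs_comm_lcs_le (G := Y) (i - 1) (j - 1)
  rwa [show i - 1 + (j - 1) + 1 = i + j - 1 by omega] at h

/-- B1 -/
theorem comm_mem {i j : ℕ} (hi : 1 ≤ i) (hj : 1 ≤ j) {a b : Y} (ha : a ∈ K Y i) (hb : b ∈ K Y j) :
    ⁅a, b⁆ ∈ K Y (i + j) :=
  K_comm_le i j hi hj (Subgroup.commutator_mem_commutator ha hb)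

/-- the commutator with an arbitrary element goes one step down -/
theorem comm_mem_succ {i : ℕ} (hi : 1 ≤ i) {a : Y} (ha : a ∈ K Y i) (g : Y) :
    ⁅a, g⁆ ∈ K Y (i + 1) := by
  have hg : g ∈ K Y 1 := by
    rw [K_one]
    exact Subgroup.mem_top g
  exact comm_mem hi le_rfl ha hg

theorem comm_mem_succ' {i : ℕ} (hi : 1 ≤ i) {a : Y} (ha : a ∈ K Y i) (g : Y) :
    ⁅g, a⁆ ∈ K Y (i + 1) := by
  have h := comm_mem_succ hi ha g
  have h2 : ⁅g, a⁆ = ⁅a, g⁆⁻¹ := (commutatorElement_inv a g).symm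
  rw [h2]
  exact (K Y (i + 1)).inv_mem h

theorem iterComm_mem {i : ℕ} (hi : 1 ≤ i) {x : Y} (hx : x ∈ K Y i) (s : Y) (m : ℕ) :
    iterComm x s m ∈ K Y (i + m) := by
  induction m with
  | zero => exact hx
  | succ m ih =>
    have h := comm_mem_succ (i := i + m) (by omega) ih s
    rw [show i + (m + 1) = i + m + 1 by omega]
    exact h

/-- image of `K` under a surjective homomorphism -/
theorem K_map {Z : Type*} [Group Z] (f : Y →* Z) (hf : Function.Surjective f) (i : ℕ) :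
    (K Y i).map f = K Z i := by
  unfold K
  rw [Subgroup.map_lowerCentralSeries, Subgroup.map_top_of_surjective f hf]

end Cfsg.Agent.Helper21.MC
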