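import Mathlib
import Cfsg.Agent.Lib.MC.MCDefs
import Cfsg.Agent.Lib.MC.MCK

/-!
# PIECE MC-CONG: congruence modulo `K Y (D+1)` is a group congruence (small)

`Cong Y D a b` means `a⁻¹ * b ∈ K Y (D+1)`; `K Y (D+1)` is a normal subgroup (`K_normal`), so this is the
usual congruence modulo a normal subgroup.
-/

set_option autoImplicit false

namespace Cfsg.Agent.Helper21.MC

open scoped commutatorElement

variable {Y : Type*} [Group Y]

/-- congruence = equality in the quotient by `K Y (D+1)` -/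
theorem mccong_iff {D : ℕ} {a b : Y} :
    Cong Y D a b ↔ (QuotientGroup.mk a : Y ⧸ K Y (D + 1)) = QuotientGroup.mk b := by
  unfold Cong
  rw [QuotientGroup.eq]

theorem Cong.refl (D : ℕ) (a : Y) : Cong Y D a a := by
  rw [mccong_iff]

theorem Cong.symm {D : ℕ} {a b : Y} (h : Cong Y D a b) : Cong Y D b a := by
  rw [mccong_iff] at h ⊢
  exact h.symm

theorem Cong.trans {D : ℕ} {a b c : Y} (h : Cong Y D a b) (h' : Cong Y D b c) : Cong Y D a c := by
  rw [mccong_iff] at h h' ⊢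
  exact h.trans h'

theorem Cong.mul {D : ℕ} {a b c d : Y} (h : Cong Y D a b) (h' : Cong Y D c d) :
    Cong Y D (a * c) (b * d) := by
  rw [mccong_iff] at h h' ⊢
  rw [QuotientGroup.mk_mul, QuotientGroup.mk_mul, h, h']

theorem Cong.inv {D : ℕ} {a b : Y} (h : Cong Y D a b) : Cong Y D a⁻¹ b⁻¹ := by
  rw [mccong_iff] at h ⊢
  rw [QuotientGroup.mk_inv, QuotientGroup.mk_inv, h]

theorem Cong.pow {D : ℕ} {a b : Y} (h : Cong Y D a b) (r : ℕ) : Cong Y D (a ^ r) (b ^ r) := by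
  rw [mccong_iff] at h ⊢
  rw [QuotientGroup.mk_pow, QuotientGroup.mk_pow, h]

theorem Cong.zpow {D : ℕ} {a b : Y} (h : Cong Y D a b) (r : ℤ) : Cong Y D (a ^ r) (b ^ r) := by
  rw [mccong_iff] at h ⊢
  rw [QuotientGroup.mk_zpow, QuotientGroup.mk_zpow, h]

/-- congruence to a deeper level implies congruence -/
theorem Cong.mono {D D' : ℕ} (hD : D ≤ D') {a b : Y} (h : Cong Y D' a b) : Cong Y D a b := by
  unfold Cong at h ⊢
  exact K_antitone (Y := Y) (by omega : D + 1 ≤ D' + 1) h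

theorem cong_one_iff {D : ℕ} {a : Y} : Cong Y D a 1 ↔ a ∈ K Y (D + 1) := by
  unfold Cong
  rw [mul_one, inv_mem_iff]

theorem cong_one_iff' {D : ℕ} {a : Y} : Cong Y D 1 a ↔ a ∈ K Y (D + 1) := by
  unfold Cong
  rw [inv_one, one_mul]

theorem cong_of_mem {D : ℕ} {a b : Y} (ha : a ∈ K Y (D + 1)) (hb : b ∈ K Y (D + 1)) :
    Cong Y D a b := by
  unfold Cong
  exact mul_mem (inv_mem ha) hb

/-- membership in `K Y D` transfers along congruence -/
theorem Cong.mem {D : ℕ} {a b : Y} (h : Cong Y D a b) (ha : a ∈ K Y D) : b ∈ K Y D := by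
  unfold Cong at h
  have h1 : a⁻¹ * b ∈ K Y D := K_antitone (Y := Y) (by omega : D ≤ D + 1) h
  have h2 : a * (a⁻¹ * b) ∈ K Y D := mul_mem ha h1
  rwa [mul_inv_cancel_left] at h2

/-- membership in `K Y (D+1)` transfers along congruence -/
theorem Cong.mem_succ {D : ℕ} {a b : Y} (h : Cong Y D a b) (ha : a ∈ K Y (D + 1)) :
    b ∈ K Y (D + 1) := by
  unfold Cong at h
  have h2 : a * (a⁻¹ * b) ∈ K Y (D + 1) := mul_mem ha h
  rwa [mul_inv_cancel_left] at h2

/-- modulo `K Y (D+1)` the elements of `K Y D` commute (`D ≥ 1`) -/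
theorem cong_mul_comm {D : ℕ} (hD : 1 ≤ D) {a b : Y} (ha : a ∈ K Y D) (hb : b ∈ K Y D) :
    Cong Y D (a * b) (b * a) := by
  unfold Cong
  have h : ⁅b⁻¹, a⁻¹⁆ ∈ K Y (D + 1) := comm_mem_succ hD (inv_mem hb) a⁻¹
  have e : (a * b)⁻¹ * (b * a) = ⁅b⁻¹, a⁻¹⁆ := by
    rw [commutatorElement_def]
    group
  rw [e]
  exact h

/-- multiplying by an element of `K Y (D+1)` does not change the class -/
theorem cong_mul_right_of_mem {D : ℕ} (a : Y) {b : Y} (hb : b ∈ K Y (D + 1)) :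
    Cong Y D (a * b) a := by
  unfold Cong
  have e : (a * b)⁻¹ * a = b⁻¹ := by group
  rw [e]
  exact inv_mem hb

theorem cong_mul_left_of_mem {D : ℕ} (a : Y) {b : Y} (hb : b ∈ K Y (D + 1)) :
    Cong Y D (b * a) a := by
  unfold Cong
  have e : (b * a)⁻¹ * a = a⁻¹ * b⁻¹ * a := by group
  rw [e]
  have h := (K_normal (Y := Y) (D + 1)).conj_mem b⁻¹ (inv_mem hb) a⁻¹
  rwa [inv_inv] at h

/-- conjugation is trivial modulo the next term -/
theorem cong_conj {D : ℕ} (hD : 1 ≤ D) {a : Y} (ha : a ∈ K Y D) (g : Y) :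
    Cong Y D (g * a * g⁻¹) a := by
  unfold Cong
  have h : ⁅g, a⁻¹⁆ ∈ K Y (D + 1) := comm_mem_succ' hD (inv_mem ha) g
  have e : (g * a * g⁻¹)⁻¹ * a = ⁅g, a⁻¹⁆ := by
    rw [commutatorElement_def]
    group
  rw [e]
  exact h

end Cfsg.Agent.Helper21.MC
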