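import Mathlib
import Cfsg.Agent.Lib.MC.MCDefs
import Cfsg.Agent.Lib.MC.MCK
import Cfsg.Agent.Lib.MC.MCCong

/-!
# PIECE MC-BIL: the commutator is bilinear modulo the next term (medium)  (proved by helper7)

For `a, a' ∈ K_i`, `b, b' ∈ K_j` (`i, j ≥ 1`) everything below is a congruence modulo `K_{i+j+1}`.
Recipe: the exact identities `⁅a * a', b⁆ = a * ⁅a', b⁆ * a⁻¹ * ⁅a, b⁆` and
`⁅a, b * b'⁆ = ⁅a, b⁆ * (b * ⁅a, b'⁆ * b⁻¹)` (`simp [commutatorElement_def]; group`), then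
`cong_conj`, `cong_mul_comm` (both factors lie in `K_{i+j}` by `comm_mem`).
-/

set_option autoImplicit false

namespace Cfsg.Agent.Helper21.MC

open scoped commutatorElement

variable {Y : Type*} [Group Y]

theorem mcbil_mul_left (a a' b : Y) : ⁅a * a', b⁆ = a * ⁅a', b⁆ * a⁻¹ * ⁅a, b⁆ := by
  simp only [commutatorElement_def]
  group

theorem mcbil_mul_right (a b b' : Y) : ⁅a, b * b'⁆ = ⁅a, b⁆ * (b * ⁅a, b'⁆ * b⁻¹) := by
  simp only [commutatorElement_def]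
  group

theorem comm_mul_left_cong {i j : ℕ} (hi : 1 ≤ i) (hj : 1 ≤ j) {a a' b : Y}
    (ha : a ∈ K Y i) (ha' : a' ∈ K Y i) (hb : b ∈ K Y j) :
    Cong Y (i + j) ⁅a * a', b⁆ (⁅a, b⁆ * ⁅a', b⁆) := by
  rw [mcbil_mul_left]
  have h1 : ⁅a, b⁆ ∈ K Y (i + j) := comm_mem hi hj ha hb
  have h2 : ⁅a', b⁆ ∈ K Y (i + j) := comm_mem hi hj ha' hb
  have h3 : Cong Y (i + j) (a * ⁅a', b⁆ * a⁻¹) ⁅a', b⁆ := cong_conj (by omega) h2 a
  exact (h3.mul (Cong.refl _ _)).trans (cong_mul_comm (by omega) h2 h1)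

theorem comm_mul_right_cong {i j : ℕ} (hi : 1 ≤ i) (hj : 1 ≤ j) {a b b' : Y}
    (ha : a ∈ K Y i) (hb : b ∈ K Y j) (hb' : b' ∈ K Y j) :
    Cong Y (i + j) ⁅a, b * b'⁆ (⁅a, b⁆ * ⁅a, b'⁆) := by
  rw [mcbil_mul_right]
  have h2 : ⁅a, b'⁆ ∈ K Y (i + j) := comm_mem hi hj ha hb'
  have h3 : Cong Y (i + j) (b * ⁅a, b'⁆ * b⁻¹) ⁅a, b'⁆ := cong_conj (by omega) h2 b
  exact (Cong.refl _ _).mul h3

theorem comm_inv_left_cong {i j : ℕ} (hi : 1 ≤ i) (hj : 1 ≤ j) {a b : Y}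
    (ha : a ∈ K Y i) (hb : b ∈ K Y j) : Cong Y (i + j) ⁅a⁻¹, b⁆ ⁅a, b⁆⁻¹ := by
  have h := comm_mul_left_cong hi hj ha (inv_mem ha) hb
  rw [mul_inv_cancel, commutatorElement_one_left] at h
  rw [mccong_iff] at h ⊢
  rw [QuotientGroup.mk_mul, QuotientGroup.mk_one] at h
  rw [QuotientGroup.mk_inv]
  exact (inv_eq_of_mul_eq_one_right h.symm).symm

theorem comm_inv_right_cong {i j : ℕ} (hi : 1 ≤ i) (hj : 1 ≤ j) {a b : Y}
    (ha : a ∈ K Y i) (hb : b ∈ K Y j) : Cong Y (i + j) ⁅a, b⁻¹⁆ ⁅a, b⁆⁻¹ := by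
  have h := comm_mul_right_cong hi hj ha hb (inv_mem hb)
  rw [mul_inv_cancel, commutatorElement_one_right] at h
  rw [mccong_iff] at h ⊢
  rw [QuotientGroup.mk_mul, QuotientGroup.mk_one] at h
  rw [QuotientGroup.mk_inv]
  exact (inv_eq_of_mul_eq_one_right h.symm).symm

theorem comm_pow_left_cong {i j : ℕ} (hi : 1 ≤ i) (hj : 1 ≤ j) {a b : Y}
    (ha : a ∈ K Y i) (hb : b ∈ K Y j) (r : ℕ) : Cong Y (i + j) ⁅a ^ r, b⁆ (⁅a, b⁆ ^ r) := by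
  induction r with
  | zero =>
    rw [pow_zero, pow_zero, commutatorElement_one_left]
    exact Cong.refl _ _
  | succ r ih =>
    rw [pow_succ, pow_succ]
    exact (comm_mul_left_cong hi hj (pow_mem ha r) ha hb).trans (ih.mul (Cong.refl _ _))

theorem comm_zpow_left_cong {i j : ℕ} (hi : 1 ≤ i) (hj : 1 ≤ j) {a b : Y}
    (ha : a ∈ K Y i) (hb : b ∈ K Y j) (r : ℤ) : Cong Y (i + j) ⁅a ^ r, b⁆ (⁅a, b⁆ ^ r) := by
  cases r with
  | ofNat n =>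
    rw [Int.ofNat_eq_natCast, zpow_natCast, zpow_natCast]
    exact comm_pow_left_cong hi hj ha hb n
  | negSucc n =>
    rw [zpow_negSucc, zpow_negSucc]
    exact (comm_inv_left_cong hi hj (pow_mem ha (n + 1)) hb).trans
      (comm_pow_left_cong hi hj ha hb (n + 1)).inv

theorem comm_pow_right_cong {i j : ℕ} (hi : 1 ≤ i) (hj : 1 ≤ j) {a b : Y}
    (ha : a ∈ K Y i) (hb : b ∈ K Y j) (r : ℕ) : Cong Y (i + j) ⁅a, b ^ r⁆ (⁅a, b⁆ ^ r) := by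
  induction r with
  | zero =>
    rw [pow_zero, pow_zero, commutatorElement_one_right]
    exact Cong.refl _ _
  | succ r ih =>
    rw [pow_succ, pow_succ]
    exact (comm_mul_right_cong hi hj ha (pow_mem hb r) hb).trans (ih.mul (Cong.refl _ _))

/-- the class of `⁅a, b⁆` modulo `K_{i+j+1}` depends only on the class of `a` modulo `K_{i+1}` -/
theorem comm_cong_left {i j : ℕ} (hi : 1 ≤ i) (hj : 1 ≤ j) {a a' b : Y}
    (ha : a ∈ K Y i) (h : Cong Y i a a') (hb : b ∈ K Y j) :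
    Cong Y (i + j) ⁅a, b⁆ ⁅a', b⁆ := by
  have hc : a⁻¹ * a' ∈ K Y (i + 1) := h
  have e : a' = a * (a⁻¹ * a') := by group
  have h1 : ⁅a⁻¹ * a', b⁆ ∈ K Y (i + 1 + j) := comm_mem (by omega) hj hc hb
  have h2 : a * ⁅a⁻¹ * a', b⁆ * a⁻¹ ∈ K Y (i + j + 1) := by
    rw [show i + j + 1 = i + 1 + j by omega]
    exact (K_normal (Y := Y) (i + 1 + j)).conj_mem _ h1 a
  have h3 : ⁅a', b⁆ = a * ⁅a⁻¹ * a', b⁆ * a⁻¹ * ⁅a, b⁆ := by
    conv_lhs => rw [e]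
    exact mcbil_mul_left a (a⁻¹ * a') b
  rw [h3]
  exact (cong_mul_left_of_mem ⁅a, b⁆ h2).symm

theorem comm_cong_right {i j : ℕ} (hi : 1 ≤ i) (hj : 1 ≤ j) {a b b' : Y}
    (ha : a ∈ K Y i) (hb : b ∈ K Y j) (h : Cong Y j b b') :
    Cong Y (i + j) ⁅a, b⁆ ⁅a, b'⁆ := by
  have hc : b⁻¹ * b' ∈ K Y (j + 1) := h
  have e : b' = b * (b⁻¹ * b') := by group
  have h1 : ⁅a, b⁻¹ * b'⁆ ∈ K Y (i + (j + 1)) := comm_mem hi (by omega) ha hc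
  have h2 : b * ⁅a, b⁻¹ * b'⁆ * b⁻¹ ∈ K Y (i + j + 1) := by
    rw [show i + j + 1 = i + (j + 1) by omega]
    exact (K_normal (Y := Y) (i + (j + 1))).conj_mem _ h1 b
  have h3 : ⁅a, b'⁆ = ⁅a, b⁆ * (b * ⁅a, b⁻¹ * b'⁆ * b⁻¹) := by
    conv_lhs => rw [e]
    exact mcbil_mul_right a b (b⁻¹ * b')
  rw [h3]
  exact (cong_mul_right_of_mem ⁅a, b⁆ h2).symm

/-- antisymmetry (exact) -/
theorem comm_swap (a b : Y) : ⁅b, a⁆ = ⁅a, b⁆⁻¹ := by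
  exact (commutatorElement_inv a b).symm

end Cfsg.Agent.Helper21.MC
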