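import Mathlib
import Cfsg.Agent.Lib.MC.MCDefs
import Cfsg.Agent.Lib.MC.MCK
import Cfsg.Agent.Lib.Helper22.MaxClass

/-!
# PIECE MC-CARD: orders of the terms of the lower central series of a group of maximal class (medium)
(helper21's farm, row S3806; proved by helper4)

`Y` of order `p ^ n`, class `n - 1`, `n ≥ 3`.  The lower central series
`⊤ = K 1 > K 2 > ... > K n = ⊥` is strictly decreasing (`K (i+1) = K i` forces `K j = K i` for all `j ≥ i`, and
`K n = ⊥` as the class is `n - 1`: `Subgroup.lowerCentralSeries_eq_bot_iff_nilpotencyClass_le`,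
`Subgroup.lowerCentralSeries_nilpotencyClass`), `K (n-1) ≠ ⊥`.  `|Y : K 2| = p ^ 2`
(`Cfsg.Agent.Helper22.maxClass_facts`, note `K Y 2 = commutator Y`: `Subgroup.top_lowerCentralSeries_one`), each of
the `n - 2` further steps has index at least `p`, and the product of the indices is `p ^ n`; hence each index is `p`.
-/

set_option autoImplicit false

namespace Cfsg.Agent.Helper21.MC

open scoped commutatorElement

variable {Y : Type*} [Group Y] [Finite Y] {p : ℕ} [Fact p.Prime] {n : ℕ}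

theorem isPGroup_of_isMC (hY : IsMC p n Y) : IsPGroup p Y :=
  IsPGroup.of_card hY.1

theorem K_two_eq_commutator : K Y 2 = commutator Y := by
  unfold K
  exact Subgroup.top_lowerCentralSeries_one

/-- the 0-based lower central series -/
theorem mccard_K_eq (i : ℕ) : K Y (i + 1) = (⊤ : Subgroup Y).lowerCentralSeries i := by
  unfold K
  rw [Nat.add_sub_cancel]

theorem mccard_isNilpotent (hY : IsMC p n Y) : Group.IsNilpotent Y :=
  (isPGroup_of_isMC hY).isNilpotent

theorem mccard_lcs_bot (hY : IsMC p n Y) : (⊤ : Subgroup Y).lowerCentralSeries (n - 1) = ⊥ := by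
  have := mccard_isNilpotent hY
  rw [← hY.2]
  exact Subgroup.lowerCentralSeries_nilpotencyClass

theorem mccard_lcs_ne_bot (hn : 3 ≤ n) (hY : IsMC p n Y) :
    (⊤ : Subgroup Y).lowerCentralSeries (n - 2) ≠ ⊥ := by
  have := mccard_isNilpotent hY
  intro h
  rw [Subgroup.lowerCentralSeries_eq_bot_iff_nilpotencyClass_le, hY.2] at h
  omega

/-- if the series stops at `j` it is constant from there on -/
theorem mccard_const (j : ℕ)
    (h : (⊤ : Subgroup Y).lowerCentralSeries (j + 1) = (⊤ : Subgroup Y).lowerCentralSeries j) (d : ℕ) :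
    (⊤ : Subgroup Y).lowerCentralSeries (j + d) = (⊤ : Subgroup Y).lowerCentralSeries j := by
  induction d with
  | zero => rfl
  | succ d ih =>
    rw [← add_assoc, Subgroup.lowerCentralSeries_succ, ih, ← Subgroup.lowerCentralSeries_succ, h]

/-- strictness in the 0-based numbering -/
theorem mccard_lt (hn : 3 ≤ n) (hY : IsMC p n Y) (j : ℕ) (hj : j + 2 ≤ n) :
    (⊤ : Subgroup Y).lowerCentralSeries (j + 1) < (⊤ : Subgroup Y).lowerCentralSeries j := by
  refine lt_of_le_of_ne (Subgroup.lowerCentralSeries_antitone _ (Nat.le_succ j)) ?_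
  intro h
  have h1 := mccard_const j h (n - 1 - j)
  rw [show j + (n - 1 - j) = n - 1 by omega, mccard_lcs_bot hY] at h1
  apply mccard_lcs_ne_bot hn hY
  rw [eq_bot_iff, h1]
  exact Subgroup.lowerCentralSeries_antitone _ (by omega : j ≤ n - 2)

theorem K_eq_bot (hn : 3 ≤ n) (hY : IsMC p n Y) (i : ℕ) (hi : n ≤ i) : K Y i = ⊥ := by
  unfold K
  rw [eq_bot_iff, ← mccard_lcs_bot hY]
  exact Subgroup.lowerCentralSeries_antitone _ (by omega : n - 1 ≤ i - 1)

/-- the exponent of the order of a subgroup -/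
theorem mccard_exists_exp (hY : IsMC p n Y) (H : Subgroup Y) : ∃ a : ℕ, Nat.card H = p ^ a := by
  have hp : p.Prime := Fact.out
  have h1 : Nat.card H ∣ p ^ n := by
    rw [← hY.1]
    exact Subgroup.card_subgroup_dvd_card H
  obtain ⟨a, -, ha⟩ := (Nat.dvd_prime_pow hp).1 h1
  exact ⟨a, ha⟩

theorem mccard_card_lt {H H' : Subgroup Y} (h : H < H') : Nat.card H < Nat.card H' := by
  have h1 : (H : Set Y) ⊂ (H' : Set Y) := by exact_mod_cast h
  have := Set.ncard_lt_ncard h1 (Set.toFinite _)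
  rwa [← Nat.card_coe_set_eq, ← Nat.card_coe_set_eq] at this

theorem index_K_two (hn : 3 ≤ n) (hY : IsMC p n Y) : (K Y 2).index = p ^ 2 := by
  rw [K_two_eq_commutator]
  exact (Cfsg.Agent.Helper22.maxClass_facts p n (by omega) Y hY.1 hY.2).1

theorem mccard_card_K_two (hn : 3 ≤ n) (hY : IsMC p n Y) : Nat.card (K Y 2) = p ^ (n - 2) := by
  have hp : p.Prime := Fact.out
  have h1 := (K Y 2).card_mul_index
  rw [index_K_two hn hY, hY.1] at h1
  have h2 : p ^ n = p ^ (n - 2) * p ^ 2 := by rw [← pow_add]; congr 1; omega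
  rw [h2] at h1
  exact Nat.eq_of_mul_eq_mul_right (pow_pos hp.pos 2) h1

/-- upper bound for the orders -/
theorem mccard_upper (hn : 3 ≤ n) (hY : IsMC p n Y) (j : ℕ) (hj : j + 2 ≤ n) :
    Nat.card ((⊤ : Subgroup Y).lowerCentralSeries (j + 1)) ≤ p ^ (n - 2 - j) := by
  have hp : p.Prime := Fact.out
  induction j with
  | zero =>
    have := mccard_card_K_two hn hY
    rw [mccard_K_eq] at this
    rw [this, Nat.sub_zero]
  | succ j ih =>
    have h1 := ih (by omega)
    have h2 := mccard_card_lt (mccard_lt hn hY (j + 1) (by omega))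
    obtain ⟨a, ha⟩ := mccard_exists_exp hY ((⊤ : Subgroup Y).lowerCentralSeries (j + 1 + 1))
    obtain ⟨b, hb⟩ := mccard_exists_exp hY ((⊤ : Subgroup Y).lowerCentralSeries (j + 1))
    rw [ha, hb] at h2
    rw [hb] at h1
    rw [ha]
    have h3 : a < b := (Nat.pow_lt_pow_iff_right hp.one_lt).1 h2
    have h4 : b ≤ n - 2 - j := (Nat.pow_le_pow_iff_right hp.one_lt).1 h1
    exact Nat.pow_le_pow_right hp.pos (by omega)

/-- lower bound for the orders -/
theorem mccard_lower (hn : 3 ≤ n) (hY : IsMC p n Y) (d : ℕ) (hd : d + 1 ≤ n) :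
    p ^ d ≤ Nat.card ((⊤ : Subgroup Y).lowerCentralSeries (n - 1 - d)) := by
  have hp : p.Prime := Fact.out
  induction d with
  | zero =>
    rw [pow_zero]
    exact Nat.card_pos
  | succ d ih =>
    have h1 := ih (by omega)
    have h2 := mccard_card_lt (mccard_lt hn hY (n - 1 - (d + 1)) (by omega))
    rw [show n - 1 - (d + 1) + 1 = n - 1 - d by omega] at h2
    obtain ⟨a, ha⟩ := mccard_exists_exp hY ((⊤ : Subgroup Y).lowerCentralSeries (n - 1 - d))
    obtain ⟨b, hb⟩ := mccard_exists_exp hY ((⊤ : Subgroup Y).lowerCentralSeries (n - 1 - (d + 1)))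
    rw [ha, hb] at h2
    rw [ha] at h1
    rw [hb]
    have h3 : a < b := (Nat.pow_lt_pow_iff_right hp.one_lt).1 h2
    have h4 : d ≤ a := (Nat.pow_le_pow_iff_right hp.one_lt).1 h1
    exact Nat.pow_le_pow_right hp.pos (by omega)

theorem card_K (hn : 3 ≤ n) (hY : IsMC p n Y) (i : ℕ) (hi : 2 ≤ i) (hin : i ≤ n) :
    Nat.card (K Y i) = p ^ (n - i) := by
  obtain ⟨j, rfl⟩ : ∃ j, i = j + 2 := ⟨i - 2, by omega⟩
  rw [show j + 2 = (j + 1) + 1 from rfl, mccard_K_eq]
  apply le_antisymm
  · have := mccard_upper hn hY j hin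
    rwa [show n - 2 - j = n - (j + 1 + 1) by omega] at this
  · have := mccard_lower hn hY (n - (j + 1 + 1)) (by omega)
    rwa [show n - 1 - (n - (j + 1 + 1)) = j + 1 by omega] at this

/-- strictness: `K (i+1) < K i` for `1 ≤ i ≤ n - 1` -/
theorem K_succ_lt (hn : 3 ≤ n) (hY : IsMC p n Y) (i : ℕ) (hi : 1 ≤ i) (hin : i + 1 ≤ n) :
    K Y (i + 1) < K Y i := by
  obtain ⟨j, rfl⟩ : ∃ j, i = j + 1 := ⟨i - 1, by omega⟩
  rw [mccard_K_eq, mccard_K_eq]
  exact mccard_lt hn hY j (by omega)

/-- `K (i+1)` has index `p` in `K i` for `2 ≤ i ≤ n - 1` -/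
theorem relIndex_K (hn : 3 ≤ n) (hY : IsMC p n Y) (i : ℕ) (hi : 2 ≤ i) (hin : i + 1 ≤ n) :
    (K Y (i + 1)).relIndex (K Y i) = p := by
  have hp : p.Prime := Fact.out
  have hle : K Y (i + 1) ≤ K Y i := (K_succ_lt hn hY i (by omega) hin).le
  have h1 : (K Y (i + 1)).relIndex (K Y i) * Nat.card (K Y (i + 1)) = Nat.card (K Y i) := by
    rw [Subgroup.relIndex, ← ((K Y (i + 1)).subgroupOf (K Y i)).index_mul_card]
    congr 1
    exact (Nat.card_congr (Subgroup.subgroupOfEquivOfLe hle).toEquiv).symm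
  rw [card_K hn hY i hi (by omega), card_K hn hY (i + 1) (by omega) hin] at h1
  have h2 : p ^ (n - i) = p * p ^ (n - (i + 1)) := by
    rw [← pow_succ']
    congr 1
    omega
  rw [h2] at h1
  exact Nat.eq_of_mul_eq_mul_right (pow_pos hp.pos _) h1

/-- the last nontrivial term is central -/
theorem K_pred_le_center (hn : 3 ≤ n) (hY : IsMC p n Y) : K Y (n - 1) ≤ Subgroup.center Y := by
  have h1 : ⁅K Y (n - 1), (⊤ : Subgroup Y)⁆ = ⊥ := by
    rw [show n - 1 = (n - 2) + 1 by omega, mccard_K_eq, ← Subgroup.lowerCentralSeries_succ,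
      show n - 2 + 1 = n - 1 by omega]
    exact mccard_lcs_bot hY
  rw [Subgroup.commutator_eq_bot_iff_le_centralizer] at h1
  rwa [Subgroup.coe_top, Subgroup.centralizer_univ] at h1

end Cfsg.Agent.Helper21.MC
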