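import Mathlib
import Cfsg.Agent.Lib.MC.MCDefs
import Cfsg.Agent.Lib.MC.MCK
import Cfsg.Agent.Lib.MC.MCCard
import Cfsg.Agent.Lib.Helper23.PGroup

/-!
# PIECE MC-FRAT: `Y / K 2` is elementary abelian of order `p ^ 2` and `K 2` consists of non-generators (medium)

`Y` of order `p ^ n`, class `n - 1`, `n ≥ 3`.
* `sup_K_two_eq_top`: a subgroup `H` with `H ⊔ K 2 = ⊤` is `⊤` (`K 2 = Y' ≤ Φ(Y)`, `frattini_nongenerating`).
* `pow_p_mem_K_two`: `Y ⧸ K 2` has order `p ^ 2`; if `g ^ p ∉ K 2` then `g` generates `Y` modulo `K 2`, so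
  `closure {g} ⊔ K 2 = ⊤`, `closure {g} = ⊤`, `Y` is cyclic hence commutative, `K 2 = ⊥`, contradiction with
  `index_K_two` (`p ^ 2 ≠ p ^ n`).
* `closure_pair_eq_top`.
-/

set_option autoImplicit false

namespace Cfsg.Agent.Helper21.MC

open scoped commutatorElement

variable {Y : Type*} [Group Y] [Finite Y] {p : ℕ} [Fact p.Prime] {n : ℕ}

theorem mcfrat_aux {a m q : ℕ} (hq : q.Prime) (ha : a ≠ 1) (h : a * m = q) : m = 1 := by
  have h1 : a ∣ q := Dvd.intro _ h
  rcases (Nat.dvd_prime hq).mp h1 with h2 | h2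
  · exact absurd h2 ha
  · rw [h2] at h
    exact Nat.eq_of_mul_eq_mul_left hq.pos (by rw [h, mul_one])

theorem sup_K_two_eq_top (hn : 3 ≤ n) (hY : IsMC p n Y) (H : Subgroup Y) (h : H ⊔ K Y 2 = ⊤) :
    H = ⊤ := by
  have hP : IsPGroup p Y := isPGroup_of_isMC hY
  have h1 : K Y 2 ≤ frattini Y := by
    rw [K_two_eq_commutator]
    exact Cfsg.Agent.Helper23.commutator_le_frattini_pgroup p hP
  apply frattini_nongenerating
  rw [eq_top_iff, ← h]
  exact sup_le_sup_left h1 H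

theorem pow_p_mem_K_two (hn : 3 ≤ n) (hY : IsMC p n Y) (g : Y) : g ^ p ∈ K Y 2 := by
  have hp : p.Prime := Fact.out
  by_contra hg
  have hcardQ : Nat.card (Y ⧸ K Y 2) = p ^ 2 := by
    rw [← Subgroup.index_eq_card, index_K_two hn hY]
  -- the order of the image of `g`
  have hord : orderOf (QuotientGroup.mk' (K Y 2) g) ∣ p ^ 2 := by
    rw [← hcardQ]
    exact orderOf_dvd_natCard _
  obtain ⟨j, hj2, hj⟩ := (Nat.dvd_prime_pow hp).mp hord
  have hj' : j = 2 := by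
    by_contra hne
    have hj1 : j ≤ 1 := by omega
    apply hg
    have h1 : (QuotientGroup.mk' (K Y 2) g) ^ p = 1 := by
      apply orderOf_dvd_iff_pow_eq_one.mp
      rw [hj]
      calc p ^ j ∣ p ^ 1 := pow_dvd_pow p hj1
        _ = p := pow_one p
    rw [← map_pow] at h1
    exact (QuotientGroup.eq_one_iff _).mp h1
  rw [hj'] at hj
  have hz : Subgroup.zpowers (QuotientGroup.mk' (K Y 2) g) = ⊤ := by
    apply Subgroup.eq_top_of_card_eq
    rw [Nat.card_zpowers, hj, hcardQ]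
  have hsup : Subgroup.closure {g} ⊔ K Y 2 = ⊤ := by
    rw [Subgroup.eq_top_iff']
    intro y
    have hy : QuotientGroup.mk' (K Y 2) y ∈ Subgroup.zpowers (QuotientGroup.mk' (K Y 2) g) := by
      rw [hz]
      exact Subgroup.mem_top _
    obtain ⟨k, hk⟩ := Subgroup.mem_zpowers_iff.mp hy
    rw [← map_zpow] at hk
    have h2 : (g ^ k)⁻¹ * y ∈ K Y 2 := by
      have h3 := QuotientGroup.eq.mp hk
      exact h3
    have h4 : y = g ^ k * ((g ^ k)⁻¹ * y) := by group
    rw [h4]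
    refine Subgroup.mul_mem_sup ?_ h2
    exact Subgroup.zpow_mem _ (Subgroup.subset_closure (Set.mem_singleton g)) k
  have htop := sup_K_two_eq_top hn hY _ hsup
  have hcomm : K Y 2 = ⊥ := by
    rw [K_two_eq_commutator, commutator_def, eq_bot_iff, Subgroup.commutator_le]
    intro a _ b _
    rw [Subgroup.mem_bot, commutatorElement_eq_one_iff_commute]
    have ha : a ∈ Subgroup.zpowers g := by
      rw [Subgroup.zpowers_eq_closure, htop]
      exact Subgroup.mem_top a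
    have hb : b ∈ Subgroup.zpowers g := by
      rw [Subgroup.zpowers_eq_closure, htop]
      exact Subgroup.mem_top b
    obtain ⟨i, rfl⟩ := Subgroup.mem_zpowers_iff.mp ha
    obtain ⟨l, rfl⟩ := Subgroup.mem_zpowers_iff.mp hb
    exact Commute.zpow_zpow_self g i l
  have hidx := index_K_two hn hY
  rw [hcomm, Subgroup.index_bot, hY.1] at hidx
  have h5 := Nat.pow_right_injective hp.two_le hidx
  omega

/-- two elements separated by two subgroups of index `p` containing `K 2` generate `Y` -/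
theorem closure_pair_eq_top (hn : 3 ≤ n) (hY : IsMC p n Y) (H₁ H₂ : Subgroup Y)
    (h₁ : K Y 2 ≤ H₁) (h₂ : K Y 2 ≤ H₂) (hi₁ : H₁.index = p) (hi₂ : H₂.index = p) {x y : Y}
    (hx₁ : x ∈ H₁) (hx₂ : x ∉ H₂) (hy₂ : y ∈ H₂) (hy₁ : y ∉ H₁) :
    Subgroup.closure {x, y} = ⊤ := by
  have hp : p.Prime := Fact.out
  apply sup_K_two_eq_top hn hY
  have hxL : x ∈ Subgroup.closure {x, y} ⊔ K Y 2 :=
    (le_sup_left : Subgroup.closure {x, y} ≤ _) (Subgroup.subset_closure (by simp))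
  have hyL : y ∈ Subgroup.closure {x, y} ⊔ K Y 2 :=
    (le_sup_left : Subgroup.closure {x, y} ≤ _) (Subgroup.subset_closure (by simp))
  have hKL : K Y 2 ≤ Subgroup.closure {x, y} ⊔ K Y 2 := le_sup_right
  have hKA : K Y 2 ≤ (Subgroup.closure {x, y} ⊔ K Y 2) ⊓ H₁ := le_inf hKL h₁
  have hxA : x ∈ (Subgroup.closure {x, y} ⊔ K Y 2) ⊓ H₁ := ⟨hxL, hx₁⟩
  have hxK : x ∉ K Y 2 := fun h => hx₂ (h₂ h)
  have e1 := Subgroup.relIndex_mul_index hKA
  rw [index_K_two hn hY] at e1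
  have e2 := Subgroup.relIndex_mul_index
    (inf_le_right : (Subgroup.closure {x, y} ⊔ K Y 2) ⊓ H₁ ≤ H₁)
  rw [hi₁] at e2
  have hr1 : (K Y 2).relIndex ((Subgroup.closure {x, y} ⊔ K Y 2) ⊓ H₁) ≠ 1 := by
    intro h
    rw [Subgroup.relIndex_eq_one] at h
    exact hxK (h hxA)
  have e3 : (K Y 2).relIndex ((Subgroup.closure {x, y} ⊔ K Y 2) ⊓ H₁) *
      ((Subgroup.closure {x, y} ⊔ K Y 2) ⊓ H₁).relIndex H₁ = p := by
    rw [← e2, ← mul_assoc] at e1
    have h4 : p ^ 2 = p * p := pow_two p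
    rw [h4] at e1
    exact Nat.eq_of_mul_eq_mul_right hp.pos e1
  have hr2 := mcfrat_aux hp hr1 e3
  rw [Subgroup.relIndex_eq_one] at hr2
  have hH₁L : H₁ ≤ Subgroup.closure {x, y} ⊔ K Y 2 := hr2.trans inf_le_left
  have e4 := Subgroup.relIndex_mul_index hH₁L
  rw [hi₁] at e4
  have hr3 : H₁.relIndex (Subgroup.closure {x, y} ⊔ K Y 2) ≠ 1 := by
    intro h
    rw [Subgroup.relIndex_eq_one] at h
    exact hy₁ (h hyL)
  have hr4 := mcfrat_aux hp hr3 e4
  exact Subgroup.index_eq_one.mp hr4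

/-- `Y` is not the union of two subgroups of index `p` -/
theorem exists_not_mem_two (H₁ H₂ : Subgroup Y) (hi₁ : H₁.index = p) (hi₂ : H₂.index = p) :
    ∃ s : Y, s ∉ H₁ ∧ s ∉ H₂ := by
  have hp : p.Prime := Fact.out
  have hex : ∀ H : Subgroup Y, H.index = p → ∃ a, a ∉ H := by
    intro H hi
    by_contra hc
    push Not at hc
    have h1 : H = ⊤ := (Subgroup.eq_top_iff' H).mpr hc
    rw [h1, Subgroup.index_top] at hi
    exact hp.one_lt.ne hi
  by_contra hcon
  push Not at hcon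
  obtain ⟨a, ha⟩ := hex H₁ hi₁
  obtain ⟨b, hb⟩ := hex H₂ hi₂
  have ha2 : a ∈ H₂ := by
    by_contra h
    exact h (hcon a ha)
  have hb1 : b ∈ H₁ := by
    by_contra h
    exact hb (hcon b h)
  by_cases hab : a * b ∈ H₁
  · apply ha
    have h1 : a = a * b * b⁻¹ := by group
    rw [h1]
    exact H₁.mul_mem hab (H₁.inv_mem hb1)
  · apply hb
    have h1 : b = a⁻¹ * (a * b) := by group
    rw [h1]
    exact H₂.mul_mem (H₂.inv_mem ha2) (hcon _ hab)

/-- two distinct subgroups of index `p`: neither contains the other -/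
theorem exists_mem_not_mem (H₁ H₂ : Subgroup Y) (hi₁ : H₁.index = p) (hi₂ : H₂.index = p)
    (hne : H₁ ≠ H₂) : ∃ x, x ∈ H₁ ∧ x ∉ H₂ := by
  have hp : p.Prime := Fact.out
  by_contra hcon
  push Not at hcon
  have hle : H₁ ≤ H₂ := fun x hx => hcon x hx
  have e1 := Subgroup.relIndex_mul_index hle
  rw [hi₁, hi₂] at e1
  have h1 : H₁.relIndex H₂ = 1 := by
    have h2 : H₁.relIndex H₂ * p = 1 * p := by rw [e1, one_mul]
    exact Nat.eq_of_mul_eq_mul_right hp.pos h2
  rw [Subgroup.relIndex_eq_one] at h1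
  exact hne (le_antisymm hle h1)

end Cfsg.Agent.Helper21.MC
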