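import Mathlib
import Cfsg.Agent.Lib.MC.MCDefs
import Cfsg.Agent.Lib.MC.MCK
import Cfsg.Agent.Lib.MC.MCCong
import Cfsg.Agent.Lib.MC.MCCard

/-!
# PIECE MC-GEN: the factors `K i / K (i+1)` (`2 ≤ i ≤ n-1`) are cyclic of order `p`, generated by any element
outside `K (i+1)` (small-medium)

Recipe: `relIndex_K` gives `|K i : K (i+1)| = p`; for `e ∈ K i`, `e ∉ K (i+1)` the subgroup
`closure {e} ⊔ K (i+1)` lies strictly between, so equals `K i`.  (Or work in the quotient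
`K i ⧸ (K (i+1)).subgroupOf (K i)` of prime order.)
-/

set_option autoImplicit false

namespace Cfsg.Agent.Helper21.MC

open scoped commutatorElement

variable {Y : Type*} [Group Y] [Finite Y] {p : ℕ} [Fact p.Prime] {n : ℕ}

/-- the quotient `K i / K (i+1)` has order `p` -/
theorem mcgen_card (hn : 3 ≤ n) (hY : IsMC p n Y) {i : ℕ} (hi : 2 ≤ i) (hin : i + 1 ≤ n) :
    Nat.card (↥(K Y i) ⧸ (K Y (i + 1)).subgroupOf (K Y i)) = p := by
  have h : ((K Y (i + 1)).subgroupOf (K Y i)).index = p := relIndex_K hn hY i hi hin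
  rw [← h, Subgroup.index_eq_card]

omit [Finite Y] in
/-- an element of `K i` is trivial in the quotient iff it lies in `K (i+1)` -/
theorem mcgen_mk_eq_one_iff (i : ℕ) (x : ↥(K Y i)) :
    (QuotientGroup.mk x : ↥(K Y i) ⧸ (K Y (i + 1)).subgroupOf (K Y i)) = 1 ↔ (x : Y) ∈ K Y (i + 1) := by
  rw [QuotientGroup.eq_one_iff, Subgroup.mem_subgroupOf]

/-- every element of the quotient has `p`-th power one -/
theorem mcgen_pow_p (hn : 3 ≤ n) (hY : IsMC p n Y) {i : ℕ} (hi : 2 ≤ i) (hin : i + 1 ≤ n)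
    (g : ↥(K Y i) ⧸ (K Y (i + 1)).subgroupOf (K Y i)) : g ^ p = 1 := by
  have h := pow_card_eq_one' (G := ↥(K Y i) ⧸ (K Y (i + 1)).subgroupOf (K Y i)) (x := g)
  rwa [mcgen_card hn hY hi hin] at h

/-- a nontrivial element of the quotient has order `p` -/
theorem mcgen_orderOf (hn : 3 ≤ n) (hY : IsMC p n Y) {i : ℕ} (hi : 2 ≤ i) (hin : i + 1 ≤ n)
    {g : ↥(K Y i) ⧸ (K Y (i + 1)).subgroupOf (K Y i)} (hg : g ≠ 1) : orderOf g = p :=
  orderOf_eq_prime (mcgen_pow_p hn hY hi hin g) hg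

/-- every element of `K i` is congruent to a power of `e` -/
theorem exists_pow_cong (hn : 3 ≤ n) (hY : IsMC p n Y) {i : ℕ} (hi : 2 ≤ i) (hin : i + 1 ≤ n)
    {e : Y} (he : e ∈ K Y i) (he' : e ∉ K Y (i + 1)) {a : Y} (ha : a ∈ K Y i) :
    ∃ r : ℕ, Cong Y i a (e ^ r) := by
  set N := (K Y (i + 1)).subgroupOf (K Y i) with hN
  set eb : ↥(K Y i) ⧸ N := QuotientGroup.mk ⟨e, he⟩ with heb
  set ab : ↥(K Y i) ⧸ N := QuotientGroup.mk ⟨a, ha⟩ with hab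
  have he1 : eb ≠ 1 := by
    intro h
    exact he' ((mcgen_mk_eq_one_iff i ⟨e, he⟩).1 h)
  have htop : Subgroup.zpowers eb = ⊤ := zpowers_eq_top_of_prime_card (mcgen_card hn hY hi hin) he1
  have hmem : ab ∈ Subgroup.zpowers eb := by
    rw [htop]
    exact Subgroup.mem_top _
  rw [← mem_powers_iff_mem_zpowers] at hmem
  obtain ⟨r, hr⟩ := hmem
  have hr' : eb ^ r = ab := hr
  refine ⟨r, ?_⟩
  have h1 : (QuotientGroup.mk ((⟨a, ha⟩ : ↥(K Y i))⁻¹ * (⟨e, he⟩ : ↥(K Y i)) ^ r) : ↥(K Y i) ⧸ N) = 1 := by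
    rw [QuotientGroup.mk_mul, QuotientGroup.mk_inv, QuotientGroup.mk_pow]
    change ab⁻¹ * eb ^ r = 1
    rw [hr', inv_mul_cancel]
  have h2 := (mcgen_mk_eq_one_iff i _).1 h1
  simpa [Cong] using h2

/-- the `p`-th power of an element of `K i` lies in `K (i+1)` (`i ≥ 2`) -/
theorem pow_p_mem_succ (hn : 3 ≤ n) (hY : IsMC p n Y) {i : ℕ} (hi : 2 ≤ i) (hin : i + 1 ≤ n)
    {a : Y} (ha : a ∈ K Y i) : a ^ p ∈ K Y (i + 1) := by
  have h1 : (QuotientGroup.mk ((⟨a, ha⟩ : ↥(K Y i)) ^ p) :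
      ↥(K Y i) ⧸ (K Y (i + 1)).subgroupOf (K Y i)) = 1 := by
    rw [QuotientGroup.mk_pow]
    exact mcgen_pow_p hn hY hi hin _
  have h2 := (mcgen_mk_eq_one_iff i _).1 h1
  simpa using h2

/-- integer version -/
theorem dvd_of_zpow_mem (hn : 3 ≤ n) (hY : IsMC p n Y) {i : ℕ} (hi : 2 ≤ i) (hin : i + 1 ≤ n)
    {e : Y} (he : e ∈ K Y i) (he' : e ∉ K Y (i + 1)) {r : ℤ} (hr : e ^ r ∈ K Y (i + 1)) :
    (p : ℤ) ∣ r := by
  set N := (K Y (i + 1)).subgroupOf (K Y i) with hN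
  set eb : ↥(K Y i) ⧸ N := QuotientGroup.mk ⟨e, he⟩ with heb
  have he1 : eb ≠ 1 := by
    intro h
    exact he' ((mcgen_mk_eq_one_iff i ⟨e, he⟩).1 h)
  have hord : orderOf eb = p := mcgen_orderOf hn hY hi hin he1
  have h1 : eb ^ r = 1 := by
    have h2 : (QuotientGroup.mk ((⟨e, he⟩ : ↥(K Y i)) ^ r) : ↥(K Y i) ⧸ N) = 1 := by
      rw [mcgen_mk_eq_one_iff]
      simpa using hr
    rwa [QuotientGroup.mk_zpow] at h2
  rw [← hord]
  exact orderOf_dvd_iff_zpow_eq_one.2 h1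

/-- if `e ∉ K (i+1)` and `e ^ r ∈ K (i+1)` then `p ∣ r` -/
theorem dvd_of_pow_mem (hn : 3 ≤ n) (hY : IsMC p n Y) {i : ℕ} (hi : 2 ≤ i) (hin : i + 1 ≤ n)
    {e : Y} (he : e ∈ K Y i) (he' : e ∉ K Y (i + 1)) {r : ℕ} (hr : e ^ r ∈ K Y (i + 1)) : p ∣ r := by
  have h : (p : ℤ) ∣ (r : ℤ) := by
    apply dvd_of_zpow_mem hn hY hi hin he he'
    rwa [zpow_natCast]
  exact_mod_cast h

/-- for `p` odd: if `a ∈ K i` and `a ^ 2 ∈ K (i+1)` then `a ∈ K (i+1)` -/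
theorem mem_of_sq_mem (hn : 3 ≤ n) (hY : IsMC p n Y) (hp : p ≠ 2) {i : ℕ} (hi : 2 ≤ i)
    (hin : i + 1 ≤ n) {a : Y} (ha : a ∈ K Y i) (h2 : a ^ 2 ∈ K Y (i + 1)) : a ∈ K Y (i + 1) := by
  by_contra hcon
  have h := dvd_of_pow_mem hn hY hi hin ha hcon h2
  have hp2 : p = 2 := (Nat.prime_dvd_prime_iff_eq (Fact.out : p.Prime) Nat.prime_two).1 h
  exact hp hp2

end Cfsg.Agent.Helper21.MC
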