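import Mathlib
import Cfsg.Agent.Lib.MC.MCDefs
import Cfsg.Agent.Lib.MC.MCK
import Cfsg.Agent.Lib.MC.MCCong
import Cfsg.Agent.Lib.MC.MCBil
import Cfsg.Agent.Lib.MC.MCCard
import Cfsg.Agent.Lib.MC.MCGen

/-!
# PIECE MC-TWO: the two-step centralizers `M_i = C_Y(K_i / K_{i+2})`, `2 ≤ i ≤ n - 2` (medium)

`InM Y i g` means `⁅a, g⁆ ∈ K (i+2)` for all `a ∈ K i`.
* `inM_iff_gen`: enough to test on one element `e ∈ K i`, `e ∉ K (i+1)`: every `a ∈ K i` is `≡ e ^ r` modulo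
  `K (i+1)` (`exists_pow_cong`), and `⁅a, g⁆ ≡ ⁅e ^ r, g⁆ ≡ ⁅e, g⁆ ^ r` modulo `K (i+2)` (`comm_cong_left`,
  `comm_pow_left_cong` with `g ∈ K 1`).
* `exists_M`: the set of `g` with `InM Y i g` is a subgroup of index `p` containing `K 2`.  The map
  `g ↦ ⁅e, g⁆` modulo `K (i+2)` is a homomorphism `Y → K (i+1) / K (i+2)` (`comm_mul_right_cong` with `j = 1`), the
  target has order `p` (`relIndex_K`), its kernel is the set in question (`inM_iff_gen`), and it is not trivial: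
  otherwise `⁅K i, ⊤⁆ ≤ K (i+2)`, i.e. `K (i+1) ≤ K (i+2)`, against `K_succ_lt`.  `K 2` is in the kernel by
  `comm_mem` (`⁅K i, K 2⁆ ≤ K (i+2)`).
-/

set_option autoImplicit false

namespace Cfsg.Agent.Helper21.MC

open scoped commutatorElement

variable {Y : Type*} [Group Y]

theorem mctwo_comm_mul_right (a g h : Y) : ⁅a, g * h⁆ = ⁅a, g⁆ * (g * ⁅a, h⁆ * g⁻¹) := by
  simp only [commutatorElement_def]
  group

theorem mctwo_comm_inv_right (a g : Y) : ⁅a, g⁻¹⁆ = g⁻¹ * ⁅a, g⁆⁻¹ * g := by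
  simp only [commutatorElement_def]
  group

theorem inM_of_mem_K_two {i : ℕ} (hi : 1 ≤ i) {g : Y} (hg : g ∈ K Y 2) : InM Y i g := by
  intro a ha
  exact comm_mem hi (by norm_num) ha hg

theorem inM_mul {i : ℕ} (hi : 1 ≤ i) {g h : Y} (hg : InM Y i g) (hh : InM Y i h) :
    InM Y i (g * h) := by
  intro a ha
  rw [mctwo_comm_mul_right]
  exact mul_mem (hg a ha) ((K_normal (i + 2)).conj_mem _ (hh a ha) g)

theorem inM_inv {i : ℕ} (hi : 1 ≤ i) {g : Y} (hg : InM Y i g) : InM Y i g⁻¹ := by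
  intro a ha
  rw [mctwo_comm_inv_right]
  have h := (K_normal (i + 2)).conj_mem _ (inv_mem (hg a ha)) g⁻¹
  simpa using h

variable [Finite Y] {p : ℕ} [Fact p.Prime] {n : ℕ}

theorem inM_iff_gen (hn : 3 ≤ n) (hY : IsMC p n Y) {i : ℕ} (hi : 2 ≤ i) (hin : i + 2 ≤ n)
    {e : Y} (he : e ∈ K Y i) (he' : e ∉ K Y (i + 1)) (g : Y) :
    InM Y i g ↔ ⁅e, g⁆ ∈ K Y (i + 2) := by
  constructor
  · intro h
    exact h e he
  · intro h a ha
    obtain ⟨r, hr⟩ := exists_pow_cong hn hY hi (by omega) he he' ha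
    have hg1 : g ∈ K Y 1 := by
      rw [K_one]
      exact Subgroup.mem_top g
    have h1 : Cong Y (i + 1) ⁅a, g⁆ ⁅e ^ r, g⁆ :=
      comm_cong_left (by omega) le_rfl ha hr hg1
    have h2 : Cong Y (i + 1) ⁅e ^ r, g⁆ (⁅e, g⁆ ^ r) :=
      comm_pow_left_cong (by omega) le_rfl he hg1 r
    have h3 : Cong Y (i + 1) ⁅a, g⁆ (⁅e, g⁆ ^ r) := h1.trans h2
    exact h3.symm.mem_succ (pow_mem h r)

theorem exists_M (hn : 3 ≤ n) (hY : IsMC p n Y) {i : ℕ} (hi : 2 ≤ i) (hin : i + 2 ≤ n) :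
    ∃ H : Subgroup Y, (∀ g, g ∈ H ↔ InM Y i g) ∧ H.index = p ∧ K Y 2 ≤ H := by
  have hp : p.Prime := Fact.out
  obtain ⟨e, he, he'⟩ := SetLike.exists_of_lt (K_succ_lt hn hY i (by omega) (by omega))
  have hlt1 : K Y (i + 1 + 1) < K Y (i + 1) := K_succ_lt hn hY (i + 1) (by omega) (by omega)
  obtain ⟨e₁, he₁, he₁'⟩ := SetLike.exists_of_lt hlt1
  have hK1 : ∀ g : Y, g ∈ K Y 1 := fun g => by
    rw [K_one]
    exact Subgroup.mem_top g
  let ψ : Y →* Y ⧸ K Y (i + 2) :=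
    MonoidHom.mk' (fun g => (QuotientGroup.mk ⁅e, g⁆ : Y ⧸ K Y (i + 2))) (by
      intro g h
      have hc : Cong Y (i + 1) ⁅e, g * h⁆ (⁅e, g⁆ * ⁅e, h⁆) :=
        comm_mul_right_cong (by omega) le_rfl he (hK1 g) (hK1 h)
      rw [← QuotientGroup.mk_mul]
      exact QuotientGroup.eq.mpr hc)
  have hψ : ∀ g, ψ g = (QuotientGroup.mk ⁅e, g⁆ : Y ⧸ K Y (i + 2)) := fun g => rfl
  have hmem : ∀ g, g ∈ ψ.ker ↔ InM Y i g := by
    intro g
    rw [MonoidHom.mem_ker, hψ, QuotientGroup.eq_one_iff]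
    exact (inM_iff_gen hn hY hi hin he he' g).symm
  refine ⟨ψ.ker, hmem, ?_, ?_⟩
  · -- index
    have hrange : ψ.range ≤ Subgroup.zpowers (QuotientGroup.mk e₁ : Y ⧸ K Y (i + 2)) := by
      rintro _ ⟨g, rfl⟩
      have hcg : ⁅e, g⁆ ∈ K Y (i + 1) := comm_mem_succ (by omega) he g
      obtain ⟨r, hr⟩ := exists_pow_cong hn hY (i := i + 1) (by omega) (by omega) he₁ he₁' hcg
      have heq : (QuotientGroup.mk ⁅e, g⁆ : Y ⧸ K Y (i + 2)) = QuotientGroup.mk (e₁ ^ r) :=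
        QuotientGroup.eq.mpr hr
      rw [hψ, heq, QuotientGroup.mk_pow]
      exact Subgroup.npow_mem_zpowers _ r
    have hpow : (QuotientGroup.mk e₁ : Y ⧸ K Y (i + 2)) ^ p = 1 := by
      rw [← QuotientGroup.mk_pow, QuotientGroup.eq_one_iff]
      exact pow_p_mem_succ hn hY (i := i + 1) (by omega) (by omega) he₁
    have hdvd1 : Nat.card ψ.range ∣ Nat.card (Subgroup.zpowers (QuotientGroup.mk e₁ : Y ⧸ K Y (i + 2))) :=
      Subgroup.card_dvd_of_le hrange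
    have hdvd2 : Nat.card (Subgroup.zpowers (QuotientGroup.mk e₁ : Y ⧸ K Y (i + 2))) ∣ p := by
      rw [Nat.card_zpowers]
      exact orderOf_dvd_of_pow_eq_one hpow
    have hdvd : ψ.ker.index ∣ p := by
      rw [Subgroup.index_ker]
      exact hdvd1.trans hdvd2
    rcases (Nat.dvd_prime hp).mp hdvd with h1 | h1
    · exfalso
      have htop : ψ.ker = ⊤ := Subgroup.index_eq_one.mp h1
      have hall : ∀ g, InM Y i g := fun g => (hmem g).mp (by rw [htop]; exact Subgroup.mem_top g)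
      have hle : K Y (i + 1) ≤ K Y (i + 1 + 1) := by
        rw [K_succ i (by omega), Subgroup.commutator_le]
        intro a ha g _
        exact hall g a ha
      exact not_le_of_gt hlt1 hle
    · exact h1
  · intro g hg
    exact (hmem g).mpr (inM_of_mem_K_two (by omega) hg)

theorem comm_not_mem_of_not_inM (hn : 3 ≤ n) (hY : IsMC p n Y) {i : ℕ} (hi : 2 ≤ i)
    (hin : i + 2 ≤ n) {g : Y} (hg : ¬ InM Y i g) {a : Y} (ha : a ∈ K Y i) (ha' : a ∉ K Y (i + 1)) :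
    ⁅a, g⁆ ∉ K Y (i + 2) := by
  intro h
  exact hg ((inM_iff_gen hn hY hi hin ha ha' g).mpr h)

end Cfsg.Agent.Helper21.MC
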