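import Mathlib
import Cfsg.Agent.Lib.MC.MCDefs
import Cfsg.Agent.Lib.MC.MCK
import Cfsg.Agent.Lib.MC.MCCong
import Cfsg.Agent.Lib.MC.MCBil
import Cfsg.Agent.Lib.MC.MCCard
import Cfsg.Agent.Lib.MC.MCGen
import Cfsg.Agent.Lib.MC.MCFrat
import Cfsg.Agent.Lib.MC.MCTwo

/-!
# PIECE MC-KEYA: the elements `e_i` of the key step (medium)

Setting `KeyHyp p n t Y x y`: `M_i = M_2` for `2 ≤ i < t`, `x ∈ M_t`, `x ∉ M_2`, `y ∈ M_2`, `y ∉ M_t`, `3 ≤ t ≤ n - 3`.
`e_2 = ⁅y, x⁆`, `e_{i+1} = ⁅e_i, x⁆` (`eSeq x y`), `E = ⁅e_t, y⁆`.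

* `closure_xy`: `closure {x, y} = ⊤` (`closure_pair_eq_top` with the subgroups from `exists_M` for `i = t` and `i = 2`).
* `e_not_mem` for `i = 2`: if `⁅y, x⁆ ∈ K 3` then by bilinearity modulo `K 3` and `closure_xy` all commutators lie in
  `K 3`, so `K 2 ≤ K 3`, against `K_succ_lt`.
* `e_mem`, `e_not_mem`: induction on `i`, using `x ∉ M_i` for `2 ≤ i < t` (`heq`, `hx2`) and
  `comm_not_mem_of_not_inM`.
-/

set_option autoImplicit false

namespace Cfsg.Agent.Helper21.MC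

open scoped commutatorElement

variable {Y : Type*} [Group Y] [Finite Y] {p : ℕ} [Fact p.Prime] {n t : ℕ} {x y : Y}

theorem KeyHyp.hn (h : KeyHyp p n t Y x y) : 3 ≤ n := by
  have := h.ht3; have := h.htn; omega

theorem closure_xy (h : KeyHyp p n t Y x y) : Subgroup.closure {x, y} = ⊤ := by
  have hn := h.hn
  have ht3 := h.ht3
  have htn := h.htn
  obtain ⟨H₁, hH₁, hi₁, hK₁⟩ := exists_M hn h.mc (i := t) (by omega) (by omega)
  obtain ⟨H₂, hH₂, hi₂, hK₂⟩ := exists_M hn h.mc (i := 2) le_rfl (by omega)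
  exact closure_pair_eq_top hn h.mc H₁ H₂ hK₁ hK₂ hi₁ hi₂ ((hH₁ x).2 h.hx)
    (fun hx => h.hx2 ((hH₂ x).1 hx)) ((hH₂ y).2 h.hy) (fun hy => h.hyt ((hH₁ y).1 hy))

theorem x_not_inM (h : KeyHyp p n t Y x y) {i : ℕ} (hi : 2 ≤ i) (hit : i < t) : ¬ InM Y i x := by
  intro hx
  exact h.hx2 ((h.heq i hi hit x).1 hx)

theorem y_inM (h : KeyHyp p n t Y x y) {i : ℕ} (hi : 2 ≤ i) (hit : i < t) : InM Y i y :=
  (h.heq i hi hit y).2 h.hy

theorem e_succ (i : ℕ) (hi : 2 ≤ i) : eSeq x y (i + 1) = ⁅eSeq x y i, x⁆ := by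
  obtain ⟨k, rfl⟩ := Nat.exists_eq_add_of_le hi
  rw [show 2 + k + 1 = k + 3 by omega, show 2 + k = k + 2 by omega]
  rfl

/-- `e_i ∈ K i` for every `i ≥ 2` -/
theorem keya_e_mem (x y : Y) (i : ℕ) (hi : 2 ≤ i) : eSeq x y i ∈ K Y i := by
  induction i, hi using Nat.le_induction with
  | base =>
    show ⁅y, x⁆ ∈ K Y (1 + 1)
    exact comm_mem_succ le_rfl (by rw [K_one]; trivial) x
  | succ i hi ih =>
    rw [e_succ i hi]
    exact comm_mem_succ (by omega) ih x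

theorem e_mem (h : KeyHyp p n t Y x y) {i : ℕ} (hi : 2 ≤ i) (hit : i ≤ t) :
    eSeq x y i ∈ K Y i :=
  keya_e_mem x y i hi

omit [Finite Y] in
/-- modulo `K 3` commutators are multiplicative on the left -/
theorem keya_left (b : Y) (hx : ⁅x, b⁆ ∈ K Y 3) (hy : ⁅y, b⁆ ∈ K Y 3)
    (hcl : Subgroup.closure {x, y} = ⊤) (a : Y) : ⁅a, b⁆ ∈ K Y 3 := by
  have ha : a ∈ Subgroup.closure {x, y} := by rw [hcl]; trivial
  have htop : ∀ g : Y, g ∈ K Y 1 := fun g => by rw [K_one]; trivial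
  induction ha using Subgroup.closure_induction with
  | mem g hg =>
    rcases hg with rfl | hg
    · exact hx
    · rw [Set.mem_singleton_iff] at hg
      rw [hg]
      exact hy
  | one =>
    rw [commutatorElement_one_left]
    exact one_mem _
  | mul g g' _ _ ihg ihg' =>
    have h1 : Cong Y (1 + 1) ⁅g * g', b⁆ (⁅g, b⁆ * ⁅g', b⁆) :=
      comm_mul_left_cong le_rfl le_rfl (htop g) (htop g') (htop b)
    exact h1.symm.mem_succ (mul_mem ihg ihg')
  | inv g _ ihg =>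
    have h1 : Cong Y (1 + 1) ⁅g⁻¹, b⁆ ⁅g, b⁆⁻¹ := comm_inv_left_cong le_rfl le_rfl (htop g) (htop b)
    exact h1.symm.mem_succ (inv_mem ihg)

omit [Finite Y] in
/-- modulo `K 3` commutators are multiplicative on the right -/
theorem keya_right (a : Y) (hx : ⁅a, x⁆ ∈ K Y 3) (hy : ⁅a, y⁆ ∈ K Y 3)
    (hcl : Subgroup.closure {x, y} = ⊤) (b : Y) : ⁅a, b⁆ ∈ K Y 3 := by
  have hb : b ∈ Subgroup.closure {x, y} := by rw [hcl]; trivial
  have htop : ∀ g : Y, g ∈ K Y 1 := fun g => by rw [K_one]; trivial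
  induction hb using Subgroup.closure_induction with
  | mem g hg =>
    rcases hg with rfl | hg
    · exact hx
    · rw [Set.mem_singleton_iff] at hg
      rw [hg]
      exact hy
  | one =>
    rw [commutatorElement_one_right]
    exact one_mem _
  | mul g g' _ _ ihg ihg' =>
    have h1 : Cong Y (1 + 1) ⁅a, g * g'⁆ (⁅a, g⁆ * ⁅a, g'⁆) :=
      comm_mul_right_cong le_rfl le_rfl (htop a) (htop g) (htop g')
    exact h1.symm.mem_succ (mul_mem ihg ihg')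
  | inv g _ ihg =>
    have h1 : Cong Y (1 + 1) ⁅a, g⁻¹⁆ ⁅a, g⁆⁻¹ := comm_inv_right_cong le_rfl le_rfl (htop a) (htop g)
    exact h1.symm.mem_succ (inv_mem ihg)

/-- `e_2 = ⁅y, x⁆ ∉ K 3` -/
theorem keya_base (h : KeyHyp p n t Y x y) : ⁅y, x⁆ ∉ K Y 3 := by
  intro hc
  have hn := h.hn
  have htn := h.htn
  have ht3 := h.ht3
  have hlt : K Y (2 + 1) < K Y 2 := K_succ_lt hn h.mc 2 (by norm_num) (by omega)
  apply not_le_of_gt hlt
  have hcl := closure_xy h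
  have hxy : ⁅x, y⁆ ∈ K Y 3 := by
    rw [comm_swap y x]
    exact inv_mem hc
  have hxx : ⁅x, x⁆ ∈ K Y 3 := by
    rw [commutatorElement_self]
    exact one_mem _
  have hyy : ⁅y, y⁆ ∈ K Y 3 := by
    rw [commutatorElement_self]
    exact one_mem _
  have hall : ∀ a b : Y, ⁅a, b⁆ ∈ K Y 3 := fun a b =>
    keya_right a (keya_left x hxx hc hcl a) (keya_left y hxy hyy hcl a) hcl b
  show K Y (1 + 1) ≤ K Y 3
  rw [K_succ 1 le_rfl, Subgroup.commutator_le]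
  intro a _ b _
  exact hall a b

theorem e_not_mem (h : KeyHyp p n t Y x y) {i : ℕ} (hi : 2 ≤ i) (hit : i ≤ t) :
    eSeq x y i ∉ K Y (i + 1) := by
  have hn := h.hn
  have htn := h.htn
  induction i, hi using Nat.le_induction with
  | base => exact keya_base h
  | succ i hi ih =>
    rw [e_succ i hi]
    exact comm_not_mem_of_not_inM hn h.mc hi (by omega) (x_not_inM h hi (by omega))
      (keya_e_mem x y i hi) (ih (by omega))

/-- `E = e_{t+1} = ⁅e_t, y⁆` -/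
theorem E_mem (h : KeyHyp p n t Y x y) : ⁅eSeq x y t, y⁆ ∈ K Y (t + 1) := by
  have ht3 := h.ht3
  exact comm_mem_succ (by omega) (keya_e_mem x y t (by omega)) y

theorem E_not_mem (h : KeyHyp p n t Y x y) : ⁅eSeq x y t, y⁆ ∉ K Y (t + 2) := by
  have hn := h.hn
  have htn := h.htn
  have ht3 := h.ht3
  exact comm_not_mem_of_not_inM hn h.mc (by omega) (by omega) h.hyt (keya_e_mem x y t (by omega))
    (e_not_mem h (by omega) le_rfl)

/-- `⁅e_i, y⁆ ∈ K (i+2)` for `2 ≤ i < t` -/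
theorem e_comm_y (h : KeyHyp p n t Y x y) {i : ℕ} (hi : 2 ≤ i) (hit : i < t) :
    ⁅eSeq x y i, y⁆ ∈ K Y (i + 2) :=
  y_inM h hi hit _ (keya_e_mem x y i hi)

/-- `⁅e_t, x⁆ ∈ K (t+2)` -/
theorem et_comm_x (h : KeyHyp p n t Y x y) : ⁅eSeq x y t, x⁆ ∈ K Y (t + 2) := by
  have ht3 := h.ht3
  exact h.hx _ (keya_e_mem x y t (by omega))

end Cfsg.Agent.Helper21.MC
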