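import Mathlib
import Cfsg.Agent.Lib.MC.MCDefs
import Cfsg.Agent.Lib.MC.MCK
import Cfsg.Agent.Lib.MC.MCCong
import Cfsg.Agent.Lib.MC.MCBil

/-!
# PIECE MC-JAC: the Jacobi identity modulo the next term (medium; proved by helper27)

For `a ∈ K_i`, `b ∈ K_j`, `c ∈ K_k` (`i, j, k ≥ 1`):
`⁅⁅a,b⁆,c⁆ * ⁅⁅b,c⁆,a⁆ * ⁅⁅c,a⁆,b⁆ ∈ K_{i+j+k+1}`.

Recipe: the Hall-Witt identity holds in every group (`simp only [commutatorElement_def]; group`), e.g. in the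
form `(b * ⁅⁅a, b⁻¹⁆, c⁆ * b⁻¹) * (c * ⁅⁅b, c⁻¹⁆, a⁆ * c⁻¹) * (a * ⁅⁅c, a⁻¹⁆, b⁆ * a⁻¹) = 1`
(check the exact form with `group`; any correct form will do).  Modulo `K_{i+j+k+1}`: conjugation is trivial
(`cong_conj`), `⁅a, b⁻¹⁆ ≡ ⁅a,b⁆⁻¹` modulo `K_{i+j+1}` (`comm_inv_right_cong`), hence
`⁅⁅a,b⁻¹⁆,c⁆ ≡ ⁅⁅a,b⁆⁻¹,c⁆ ≡ ⁅⁅a,b⁆,c⁆⁻¹` (`comm_cong_left`, `comm_inv_left_cong`); the three factors lie in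
`K_{i+j+k}` and commute modulo `K_{i+j+k+1}` (`cong_mul_comm`), so the product of the three inverses is
congruent to `1`, hence so is the product itself.
-/

set_option autoImplicit false

namespace Cfsg.Agent.Helper21.MC

open scoped commutatorElement

variable {Y : Type*} [Group Y]

/-- the Hall-Witt identity (for `⁅x, y⁆ = x * y * x⁻¹ * y⁻¹`) -/
theorem mcjac_hall_witt (a b c : Y) :
    (a * ⁅⁅a⁻¹, b⁆, c⁆ * a⁻¹) * (c * ⁅⁅c⁻¹, a⁆, b⁆ * c⁻¹) * (b * ⁅⁅b⁻¹, c⁆, a⁆ * b⁻¹) = 1 := by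
  simp only [commutatorElement_def]
  group

/-- one factor of the Hall-Witt identity modulo the next term -/
theorem mcjac_term {i j k : ℕ} (hi : 1 ≤ i) (hj : 1 ≤ j) (hk : 1 ≤ k) {a b c : Y}
    (ha : a ∈ K Y i) (hb : b ∈ K Y j) (hc : c ∈ K Y k) :
    Cong Y (i + j + k) (a * ⁅⁅a⁻¹, b⁆, c⁆ * a⁻¹) ⁅⁅a, b⁆, c⁆⁻¹ := by
  have hab : ⁅a, b⁆ ∈ K Y (i + j) := comm_mem hi hj ha hb
  have ha' : a⁻¹ ∈ K Y i := inv_mem ha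
  have hab' : ⁅a⁻¹, b⁆ ∈ K Y (i + j) := comm_mem hi hj ha' hb
  have hij : 1 ≤ i + j := by omega
  have hijk : 1 ≤ i + j + k := by omega
  have h1 : Cong Y (i + j) ⁅a⁻¹, b⁆ ⁅a, b⁆⁻¹ := comm_inv_left_cong hi hj ha hb
  have h2 : Cong Y (i + j + k) ⁅⁅a⁻¹, b⁆, c⁆ ⁅⁅a, b⁆⁻¹, c⁆ := comm_cong_left hij hk hab' h1 hc
  have h3 : Cong Y (i + j + k) ⁅⁅a, b⁆⁻¹, c⁆ ⁅⁅a, b⁆, c⁆⁻¹ := comm_inv_left_cong hij hk hab hc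
  have hm : ⁅⁅a⁻¹, b⁆, c⁆ ∈ K Y (i + j + k) := comm_mem hij hk hab' hc
  have h0 : Cong Y (i + j + k) (a * ⁅⁅a⁻¹, b⁆, c⁆ * a⁻¹) ⁅⁅a⁻¹, b⁆, c⁆ := cong_conj hijk hm a
  exact h0.trans (h2.trans h3)

/-- the cyclic form `B * C * A` of the Jacobi identity -/
theorem mcjac_bca {i j k : ℕ} (hi : 1 ≤ i) (hj : 1 ≤ j) (hk : 1 ≤ k) {a b c : Y}
    (ha : a ∈ K Y i) (hb : b ∈ K Y j) (hc : c ∈ K Y k) :
    ⁅⁅b, c⁆, a⁆ * ⁅⁅c, a⁆, b⁆ * ⁅⁅a, b⁆, c⁆ ∈ K Y (i + j + k + 1) := by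
  have t1 := mcjac_term hi hj hk ha hb hc
  have t2 := mcjac_term hk hi hj hc ha hb
  have t3 := mcjac_term hj hk hi hb hc ha
  have e2 : k + i + j = i + j + k := by omega
  have e3 : j + k + i = i + j + k := by omega
  rw [e2] at t2
  rw [e3] at t3
  have hprod := (t1.mul t2).mul t3
  rw [mcjac_hall_witt] at hprod
  have hmem := cong_one_iff'.1 hprod
  have h := inv_mem hmem
  rw [mul_inv_rev, mul_inv_rev, inv_inv, inv_inv, inv_inv, ← mul_assoc] at h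
  exact h

theorem mcjac_mem3 {i j k : ℕ} (hi : 1 ≤ i) (hj : 1 ≤ j) (hk : 1 ≤ k) {a b c : Y}
    (ha : a ∈ K Y i) (hb : b ∈ K Y j) (hc : c ∈ K Y k) : ⁅⁅a, b⁆, c⁆ ∈ K Y (i + j + k) :=
  comm_mem (by omega) hk (comm_mem hi hj ha hb) hc

theorem jacobi_mem {i j k : ℕ} (hi : 1 ≤ i) (hj : 1 ≤ j) (hk : 1 ≤ k) {a b c : Y}
    (ha : a ∈ K Y i) (hb : b ∈ K Y j) (hc : c ∈ K Y k) :
    ⁅⁅a, b⁆, c⁆ * ⁅⁅b, c⁆, a⁆ * ⁅⁅c, a⁆, b⁆ ∈ K Y (i + j + k + 1) := by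
  have hA : ⁅⁅a, b⁆, c⁆ ∈ K Y (i + j + k) := mcjac_mem3 hi hj hk ha hb hc
  have hB : ⁅⁅b, c⁆, a⁆ ∈ K Y (i + j + k) := by
    have := mcjac_mem3 hj hk hi hb hc ha
    rwa [show j + k + i = i + j + k by omega] at this
  have hC : ⁅⁅c, a⁆, b⁆ ∈ K Y (i + j + k) := by
    have := mcjac_mem3 hk hi hj hc ha hb
    rwa [show k + i + j = i + j + k by omega] at this
  have hbca := mcjac_bca hi hj hk ha hb hc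
  have hcomm : Cong Y (i + j + k) (⁅⁅a, b⁆, c⁆ * (⁅⁅b, c⁆, a⁆ * ⁅⁅c, a⁆, b⁆))
      (⁅⁅b, c⁆, a⁆ * ⁅⁅c, a⁆, b⁆ * ⁅⁅a, b⁆, c⁆) :=
    cong_mul_comm (by omega) hA (mul_mem hB hC)
  have := hcomm.symm.mem_succ hbca
  rwa [← mul_assoc] at this

/-- the form used most often: if two of the three terms are deep, so is the third;
here the second and third terms are assumed to lie in `K_{i+j+k+1}` -/
theorem jacobi_first {i j k : ℕ} (hi : 1 ≤ i) (hj : 1 ≤ j) (hk : 1 ≤ k) {a b c : Y}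
    (ha : a ∈ K Y i) (hb : b ∈ K Y j) (hc : c ∈ K Y k)
    (h2 : ⁅⁅b, c⁆, a⁆ ∈ K Y (i + j + k + 1)) (h3 : ⁅⁅c, a⁆, b⁆ ∈ K Y (i + j + k + 1)) :
    ⁅⁅a, b⁆, c⁆ ∈ K Y (i + j + k + 1) := by
  have h := jacobi_mem hi hj hk ha hb hc
  have h' := mul_mem (mul_mem h (inv_mem h3)) (inv_mem h2)
  rwa [mul_inv_cancel_right, mul_inv_cancel_right] at h'

/-- if the first term is deep, the second is congruent to the inverse of the third -/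
theorem jacobi_two {i j k : ℕ} (hi : 1 ≤ i) (hj : 1 ≤ j) (hk : 1 ≤ k) {a b c : Y}
    (ha : a ∈ K Y i) (hb : b ∈ K Y j) (hc : c ∈ K Y k)
    (h1 : ⁅⁅a, b⁆, c⁆ ∈ K Y (i + j + k + 1)) :
    Cong Y (i + j + k) ⁅⁅b, c⁆, a⁆ ⁅⁅c, a⁆, b⁆⁻¹ := by
  have hbca := mcjac_bca hi hj hk ha hb hc
  have h' := mul_mem hbca (inv_mem h1)
  rw [mul_inv_cancel_right] at h'
  -- `B * C ∈ K_{N+1}`, i.e. `B ≡ C⁻¹`
  have h2 : Cong Y (i + j + k) (⁅⁅b, c⁆, a⁆ * ⁅⁅c, a⁆, b⁆) 1 := cong_one_iff.2 h'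
  have h3 := h2.mul (Cong.refl (i + j + k) ⁅⁅c, a⁆, b⁆⁻¹)
  rwa [mul_inv_cancel_right, one_mul] at h3

/-- if the third term is deep, the first is congruent to the inverse of the second -/
theorem jacobi_two' {i j k : ℕ} (hi : 1 ≤ i) (hj : 1 ≤ j) (hk : 1 ≤ k) {a b c : Y}
    (ha : a ∈ K Y i) (hb : b ∈ K Y j) (hc : c ∈ K Y k)
    (h3 : ⁅⁅c, a⁆, b⁆ ∈ K Y (i + j + k + 1)) :
    Cong Y (i + j + k) ⁅⁅a, b⁆, c⁆ ⁅⁅b, c⁆, a⁆⁻¹ := by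
  have h := jacobi_mem hi hj hk ha hb hc
  have h' := mul_mem h (inv_mem h3)
  rw [mul_inv_cancel_right] at h'
  have h2 : Cong Y (i + j + k) (⁅⁅a, b⁆, c⁆ * ⁅⁅b, c⁆, a⁆) 1 := cong_one_iff.2 h'
  have h4 := h2.mul (Cong.refl (i + j + k) ⁅⁅b, c⁆, a⁆⁻¹)
  rwa [mul_inv_cancel_right, one_mul] at h4

/-- general form as a congruence -/
theorem jacobi_cong {i j k : ℕ} (hi : 1 ≤ i) (hj : 1 ≤ j) (hk : 1 ≤ k) {a b c : Y}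
    (ha : a ∈ K Y i) (hb : b ∈ K Y j) (hc : c ∈ K Y k) :
    Cong Y (i + j + k) ⁅⁅a, b⁆, c⁆ (⁅⁅c, a⁆, b⁆⁻¹ * ⁅⁅b, c⁆, a⁆⁻¹) := by
  have h := jacobi_mem hi hj hk ha hb hc
  have h2 : Cong Y (i + j + k) (⁅⁅a, b⁆, c⁆ * ⁅⁅b, c⁆, a⁆ * ⁅⁅c, a⁆, b⁆) 1 := cong_one_iff.2 h
  have h4 := h2.mul (Cong.refl (i + j + k) (⁅⁅c, a⁆, b⁆⁻¹ * ⁅⁅b, c⁆, a⁆⁻¹))
  rw [one_mul] at h4
  have e : ⁅⁅a, b⁆, c⁆ * ⁅⁅b, c⁆, a⁆ * ⁅⁅c, a⁆, b⁆ * (⁅⁅c, a⁆, b⁆⁻¹ * ⁅⁅b, c⁆, a⁆⁻¹) = ⁅⁅a, b⁆, c⁆ := by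
    group
  rwa [e] at h4

end Cfsg.Agent.Helper21.MC
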