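import Mathlib
import Cfsg.Agent.Lib.MC.MCDefs
import Cfsg.Agent.Lib.MC.MCK
import Cfsg.Agent.Lib.MC.MCCong
import Cfsg.Agent.Lib.MC.MCBil
import Cfsg.Agent.Lib.MC.MCJac
import Cfsg.Agent.Lib.MC.MCCard
import Cfsg.Agent.Lib.MC.MCGen
import Cfsg.Agent.Lib.MC.MCFrat
import Cfsg.Agent.Lib.MC.MCTwo
import Cfsg.Agent.Lib.MC.MCKeyA

/-!
# PIECE MC-KEYB: first Jacobi computations of the key step (medium)

Notation: `e i = eSeq x y i` (`e_2 = ⁅y,x⁆`, `e_{i+1} = ⁅e_i, x⁆`), `E = ⁅e_t, y⁆`.  All from `MCKeyA`: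
`e i ∈ K i`, `⁅e_i, y⁆ ∈ K (i+2)` for `2 ≤ i < t`, `⁅e_t, x⁆ ∈ K (t+2)`, `y ∉ M_t`.

* `comm_e_e_t` (`i + j = t`): Jacobi (`jacobi_first`) for `(a,b,c) = (e_i, e_j, y)`, degrees `(i, j, 1)`:
  `⁅⁅e_j,y⁆,e_i⁆ ∈ K (t+2)` since `⁅e_j,y⁆ ∈ K (j+2)`; `⁅⁅y,e_i⁆,e_j⁆ ∈ K (t+2)` since
  `⁅y,e_i⁆ = ⁅e_i,y⁆⁻¹ ∈ K (i+2)`.  Hence `⁅⁅e_i,e_j⁆, y⁆ ∈ K (t+2)`.  As `⁅e_i,e_j⁆ ∈ K t` and `y ∉ M_t`,
  `comm_not_mem_of_not_inM` forces `⁅e_i,e_j⁆ ∈ K (t+1)`.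
* `comm_e_shift` (`i + j = t + 1`, `j ≥ 3`): Jacobi for `(e_i, e_{j-1}, x)`, degrees `(i, j-1, 1)`:
  first term `⁅⁅e_i,e_{j-1}⁆,x⁆ ∈ K (t+2)` by `comm_e_e_t`; second term `⁅⁅e_{j-1},x⁆,e_i⁆ = ⁅e_j,e_i⁆ = ⁅e_i,e_j⁆⁻¹`;
  third term `⁅⁅x,e_i⁆,e_{j-1}⁆ = ⁅e_{i+1}⁻¹, e_{j-1}⁆ ≡ ⁅e_{i+1},e_{j-1}⁆⁻¹`.  Use `jacobi_two`.
* `comm_e_top`: Jacobi for `(e_{t-1}, y, x)`, degrees `(t-1, 1, 1)`: first term `⁅⁅e_{t-1},y⁆,x⁆ ∈ K (t+2)`;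
  second term `⁅⁅y,x⁆,e_{t-1}⁆ = ⁅e_2,e_{t-1}⁆`; third term `⁅⁅x,e_{t-1}⁆,y⁆ = ⁅e_t⁻¹,y⁆ ≡ E⁻¹`.
-/

set_option autoImplicit false

namespace Cfsg.Agent.Helper21.MC

open scoped commutatorElement

variable {Y : Type*} [Group Y] [Finite Y] {p : ℕ} [Fact p.Prime] {n t : ℕ} {x y : Y}

theorem comm_e_e_t (h : KeyHyp p n t Y x y) {i j : ℕ} (hi : 2 ≤ i) (hj : 2 ≤ j) (hij : i + j = t) :
    ⁅eSeq x y i, eSeq x y j⁆ ∈ K Y (t + 1) := by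
  have hn := h.hn
  have hei : eSeq x y i ∈ K Y i := e_mem h hi (by omega)
  have hej : eSeq x y j ∈ K Y j := e_mem h hj (by omega)
  have hy1 : y ∈ K Y 1 := by rw [K_one]; exact Subgroup.mem_top y
  have h2 : ⁅⁅eSeq x y j, y⁆, eSeq x y i⁆ ∈ K Y (i + j + 1 + 1) := by
    have h1 := e_comm_y h hj (by omega : j < t)
    have h4 := comm_mem (by omega : 1 ≤ j + 2) (by omega : 1 ≤ i) h1 hei
    have e : j + 2 + i = i + j + 1 + 1 := by omega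
    rwa [e] at h4
  have h3 : ⁅⁅y, eSeq x y i⁆, eSeq x y j⁆ ∈ K Y (i + j + 1 + 1) := by
    have h1 := e_comm_y h hi (by omega : i < t)
    have h1' : ⁅y, eSeq x y i⁆ ∈ K Y (i + 2) := by
      rw [comm_swap (eSeq x y i) y]
      exact Subgroup.inv_mem _ h1
    have h4 := comm_mem (by omega : 1 ≤ i + 2) (by omega : 1 ≤ j) h1' hej
    have e : i + 2 + j = i + j + 1 + 1 := by omega
    rwa [e] at h4
  have hJ := jacobi_first (by omega : 1 ≤ i) (by omega : 1 ≤ j) (le_refl 1) hei hej hy1 h2 h3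
  have e : i + j + 1 + 1 = t + 2 := by omega
  rw [e] at hJ
  have hK : ⁅eSeq x y i, eSeq x y j⁆ ∈ K Y t := by
    have h4 := comm_mem (by omega : 1 ≤ i) (by omega : 1 ≤ j) hei hej
    rwa [hij] at h4
  by_contra hnot
  have ht3 := h.ht3
  have htn := h.htn
  exact comm_not_mem_of_not_inM hn h.mc (by omega : 2 ≤ t) (by omega : t + 2 ≤ n) h.hyt hK hnot hJ

theorem comm_e_shift (h : KeyHyp p n t Y x y) {i j : ℕ} (hi : 2 ≤ i) (hj : 3 ≤ j)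
    (hij : i + j = t + 1) :
    Cong Y (t + 1) ⁅eSeq x y i, eSeq x y j⁆ (⁅eSeq x y (i + 1), eSeq x y (j - 1)⁆)⁻¹ := by
  have hei : eSeq x y i ∈ K Y i := e_mem h hi (by omega)
  have hei1 : eSeq x y (i + 1) ∈ K Y (i + 1) := e_mem h (by omega) (by omega)
  have hej1 : eSeq x y (j - 1) ∈ K Y (j - 1) := e_mem h (by omega) (by omega)
  have hx1 : x ∈ K Y 1 := by rw [K_one]; exact Subgroup.mem_top x
  have hd : i + (j - 1) + 1 = t + 1 := by omega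
  -- the first term of the Jacobi identity is deep
  have h1 : ⁅⁅eSeq x y i, eSeq x y (j - 1)⁆, x⁆ ∈ K Y (i + (j - 1) + 1 + 1) := by
    have h4 := comm_e_e_t h hi (by omega : 2 ≤ j - 1) (by omega : i + (j - 1) = t)
    have h5 := comm_mem_succ (by omega : 1 ≤ t + 1) h4 x
    have e : i + (j - 1) + 1 + 1 = t + 1 + 1 := by omega
    rwa [e]
  have hJ := jacobi_two (by omega : 1 ≤ i) (by omega : 1 ≤ j - 1) (le_refl 1) hei hej1 hx1 h1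
  rw [hd] at hJ
  -- rewrite the two terms
  have es : ⁅eSeq x y (j - 1), x⁆ = eSeq x y j := by
    have h4 := e_succ (x := x) (y := y) (j - 1) (by omega)
    have e : j - 1 + 1 = j := by omega
    rw [e] at h4
    exact h4.symm
  have es' : ⁅x, eSeq x y i⁆ = (eSeq x y (i + 1))⁻¹ := by
    rw [comm_swap (eSeq x y i) x, e_succ i hi]
  rw [es, es'] at hJ
  -- `⁅e_{i+1}⁻¹, e_{j-1}⁆ ≡ ⁅e_{i+1}, e_{j-1}⁆⁻¹`
  have h6 := comm_inv_left_cong (by omega : 1 ≤ i + 1) (by omega : 1 ≤ j - 1) hei1 hej1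
  have hd' : i + 1 + (j - 1) = t + 1 := by omega
  rw [hd'] at h6
  have h7 : Cong Y (t + 1) ⁅eSeq x y j, eSeq x y i⁆ ⁅eSeq x y (i + 1), eSeq x y (j - 1)⁆ := by
    have h8 := hJ.trans h6.inv
    rwa [inv_inv] at h8
  have h9 := h7.inv
  rwa [← comm_swap (eSeq x y j) (eSeq x y i)] at h9

theorem comm_e_top (h : KeyHyp p n t Y x y) :
    Cong Y (t + 1) ⁅eSeq x y (t - 1), eSeq x y 2⁆ (⁅eSeq x y t, y⁆)⁻¹ := by
  have ht3 := h.ht3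
  have het1 : eSeq x y (t - 1) ∈ K Y (t - 1) := e_mem h (by omega) (by omega)
  have het : eSeq x y t ∈ K Y t := e_mem h (by omega) (le_refl t)
  have hx1 : x ∈ K Y 1 := by rw [K_one]; exact Subgroup.mem_top x
  have hy1 : y ∈ K Y 1 := by rw [K_one]; exact Subgroup.mem_top y
  have hd : t - 1 + 1 + 1 = t + 1 := by omega
  have h1 : ⁅⁅eSeq x y (t - 1), y⁆, x⁆ ∈ K Y (t - 1 + 1 + 1 + 1) := by
    have h4 := e_comm_y h (by omega : 2 ≤ t - 1) (by omega : t - 1 < t)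
    have h5 := comm_mem_succ (by omega : 1 ≤ t - 1 + 2) h4 x
    have e : t - 1 + 1 + 1 + 1 = t - 1 + 2 + 1 := by omega
    rwa [e]
  have hJ := jacobi_two (by omega : 1 ≤ t - 1) (le_refl 1) (le_refl 1) het1 hy1 hx1 h1
  rw [hd] at hJ
  have es : ⁅y, x⁆ = eSeq x y 2 := rfl
  have es' : ⁅x, eSeq x y (t - 1)⁆ = (eSeq x y t)⁻¹ := by
    rw [comm_swap (eSeq x y (t - 1)) x]
    have h4 := e_succ (x := x) (y := y) (t - 1) (by omega)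
    have e : t - 1 + 1 = t := by omega
    rw [e] at h4
    rw [h4]
  rw [es, es'] at hJ
  have h6 := comm_inv_left_cong (by omega : 1 ≤ t) (le_refl 1) het hy1
  have h7 : Cong Y (t + 1) ⁅eSeq x y 2, eSeq x y (t - 1)⁆ ⁅eSeq x y t, y⁆ := by
    have h8 := hJ.trans h6.inv
    rwa [inv_inv] at h8
  have h9 := h7.inv
  rwa [← comm_swap (eSeq x y 2) (eSeq x y (t - 1))] at h9

end Cfsg.Agent.Helper21.MC
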