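import Mathlib
import Cfsg.Agent.Lib.MC.MCDefs
import Cfsg.Agent.Lib.MC.MCK
import Cfsg.Agent.Lib.MC.MCCong
import Cfsg.Agent.Lib.MC.MCBil
import Cfsg.Agent.Lib.MC.MCJac
import Cfsg.Agent.Lib.MC.MCCard
import Cfsg.Agent.Lib.MC.MCGen
import Cfsg.Agent.Lib.MC.MCFrat
import Cfsg.Agent.Lib.MC.MCTwo
import Cfsg.Agent.Lib.MC.MCKeyA
import Cfsg.Agent.Lib.MC.MCKeyB

/-!
# PIECE MC-KEYC: `t` is even, and the brackets of degree `t + 1` (medium)

With `a_i = ⁅e_i, e_{t+1-i}⁆` (`2 ≤ i ≤ t-1`), modulo `K (t+2)`: `a_i ≡ a_{i+1}⁻¹` for `2 ≤ i ≤ t-2`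
(`comm_e_shift`), `a_{t-1} ≡ E⁻¹` (`comm_e_top`), and `a_{t+1-i} = a_i⁻¹` exactly (`comm_swap`).
Hence `a_i ≡ E ^ ((-1) ^ (t-i))` by downward induction; in particular `a_2 ≡ E ^ ((-1)^t)`, and
`a_2 = a_{t-1}⁻¹ ≡ E`.  If `t` is odd, `E ≡ E⁻¹`, `E ^ 2 ∈ K (t+2)`, so `E ∈ K (t+2)` (`mem_of_sq_mem`, `p` odd),
against `E_not_mem`.  (For `t = 3`: `a_2 = ⁅e_2,e_2⁆ = 1 ≡ E⁻¹` directly.)  So `t` is even and
`a_i ≡ E ^ ((-1) ^ i)`.
-/

set_option autoImplicit false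

namespace Cfsg.Agent.Helper21.MC

open scoped commutatorElement

variable {Y : Type*} [Group Y] [Finite Y] {p : ℕ} [Fact p.Prime] {n t : ℕ} {x y : Y}

theorem mckeyc_aux (h : KeyHyp p n t Y x y) (d : ℕ) : ∀ i : ℕ, i + d + 1 = t → 2 ≤ i →
    Cong Y (t + 1) ⁅eSeq x y i, eSeq x y (t + 1 - i)⁆
      (⁅eSeq x y t, y⁆ ^ ((-1 : ℤ) ^ (d + 1))) := by
  induction d with
  | zero =>
    intro i hid hi
    have hit : i = t - 1 := by omega
    subst hit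
    have h2 : t + 1 - (t - 1) = 2 := by have := h.ht3; omega
    rw [h2]
    have he : ((-1 : ℤ) ^ (0 + 1)) = -1 := by norm_num
    rw [he, zpow_neg_one]
    exact comm_e_top h
  | succ d ih =>
    intro i hid hi
    have hs := comm_e_shift h (i := i) (j := t + 1 - i) hi (by omega) (by omega)
    have hI := ih (i + 1) (by omega) (by omega)
    have e1 : t + 1 - (i + 1) = t + 1 - i - 1 := by omega
    rw [e1] at hI
    refine hs.trans ?_
    have := hI.inv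
    rw [← zpow_neg] at this
    have he : -((-1 : ℤ) ^ (d + 1)) = (-1) ^ (d + 1 + 1) := by
      rw [pow_succ (-1 : ℤ) (d + 1)]; ring
    rw [he] at this
    exact this

theorem t_even (h : KeyHyp p n t Y x y) : Even t := by
  by_contra hodd
  have hodd' : Odd t := Nat.not_even_iff_odd.1 hodd
  have ht3 := h.ht3
  have htn := h.htn
  have h1 := mckeyc_aux h (t - 3) 2 (by omega) le_rfl
  have hpow : ((-1 : ℤ) ^ (t - 3 + 1)) = -1 := by
    have : Odd (t - 3 + 1) := by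
      obtain ⟨m, hm⟩ := hodd'
      exact ⟨m - 1, by omega⟩
    exact this.neg_one_pow
  rw [hpow, zpow_neg_one] at h1
  have h2 := (comm_e_top h).inv
  rw [inv_inv, ← comm_swap (eSeq x y (t - 1)) (eSeq x y 2)] at h2
  have e : t + 1 - 2 = t - 1 := by omega
  rw [e] at h1
  have h3 : Cong Y (t + 1) (⁅eSeq x y t, y⁆)⁻¹ ⁅eSeq x y t, y⁆ := h1.symm.trans h2
  have h4 : ⁅eSeq x y t, y⁆ ^ 2 ∈ K Y (t + 1 + 1) := by
    have := h3
    unfold Cong at this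
    rwa [inv_inv, ← sq] at this
  exact E_not_mem h (mem_of_sq_mem h.hn h.mc h.podd (by omega) (by omega) (E_mem h) h4)

theorem comm_e_e_t1 (h : KeyHyp p n t Y x y) {i : ℕ} (hi : 2 ≤ i) (hit : i + 1 ≤ t) :
    Cong Y (t + 1) ⁅eSeq x y i, eSeq x y (t + 1 - i)⁆ (⁅eSeq x y t, y⁆ ^ ((-1 : ℤ) ^ i)) := by
  have h1 := mckeyc_aux h (t - 1 - i) i (by omega) hi
  have hev := t_even h
  have he : ((-1 : ℤ) ^ (t - 1 - i + 1)) = (-1) ^ i := by
    rw [neg_one_pow_eq_pow_mod_two, neg_one_pow_eq_pow_mod_two (n := i)]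
    congr 1
    have := Nat.even_iff.1 hev
    omega
  rwa [he] at h1

end Cfsg.Agent.Helper21.MC
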