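import Mathlib
import Cfsg.Agent.Lib.MC.MCDefs
import Cfsg.Agent.Lib.MC.MCK
import Cfsg.Agent.Lib.MC.MCCong
import Cfsg.Agent.Lib.MC.MCBil
import Cfsg.Agent.Lib.MC.MCJac
import Cfsg.Agent.Lib.MC.MCCard
import Cfsg.Agent.Lib.MC.MCGen
import Cfsg.Agent.Lib.MC.MCFrat
import Cfsg.Agent.Lib.MC.MCTwo
import Cfsg.Agent.Lib.MC.MCKeyA
import Cfsg.Agent.Lib.MC.MCKeyB
import Cfsg.Agent.Lib.MC.MCKeyC

/-!
# PIECE MC-KEYD (done by helper15): degree `t + 2`, the two brackets with `E` (medium)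

`E = ⁅e_t, y⁆ ∈ K (t+1)`.  (`t ≥ 4` by `t_even` and `ht3`.)
* `E_comm_y`: Jacobi for `(e_{t-1}, e_2, y)`, degrees `(t-1, 2, 1)`, modulo `K (t+3)`:
  second term `⁅⁅e_2,y⁆,e_{t-1}⁆ ∈ K (t+3)` since `⁅e_2,y⁆ ∈ K 4`; third term `⁅⁅y,e_{t-1}⁆,e_2⁆ ∈ K (t+3)` since
  `⁅y,e_{t-1}⁆ ∈ K (t+1)`.  So `⁅⁅e_{t-1},e_2⁆,y⁆ ∈ K (t+3)`; by `comm_e_top` and `comm_cong_left`,
  `⁅⁅e_{t-1},e_2⁆,y⁆ ≡ ⁅E⁻¹,y⁆ ≡ ⁅E,y⁆⁻¹`.
* `comm_et_e2`: Jacobi for `(e_t, y, x)`, degrees `(t,1,1)`, modulo `K (t+3)`: first term `⁅⁅e_t,y⁆,x⁆ = ⁅E,x⁆`;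
  second term `⁅⁅y,x⁆,e_t⁆ = ⁅e_2,e_t⁆ = ⁅e_t,e_2⁆⁻¹`; third term `⁅⁅x,e_t⁆,y⁆ ∈ K (t+3)` since
  `⁅x,e_t⁆ = ⁅e_t,x⁆⁻¹ ∈ K (t+2)`.
-/

set_option autoImplicit false

namespace Cfsg.Agent.Helper21.MC

open scoped commutatorElement

variable {Y : Type*} [Group Y] [Finite Y] {p : ℕ} [Fact p.Prime] {n t : ℕ} {x y : Y}

theorem E_comm_y (h : KeyHyp p n t Y x y) : ⁅⁅eSeq x y t, y⁆, y⁆ ∈ K Y (t + 3) := by
  have ht3 := h.ht3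
  obtain ⟨s, rfl⟩ : ∃ s, t = s + 1 := ⟨t - 1, by omega⟩
  have hs2 : 2 ≤ s := by omega
  have hy1 : y ∈ K Y 1 := by rw [K_one]; trivial
  have hes : eSeq x y s ∈ K Y s := e_mem h hs2 (by omega)
  have he2 : eSeq x y 2 ∈ K Y 2 := e_mem h le_rfl (by omega)
  -- the second term of the Jacobi identity for `(e_{t-1}, e_2, y)`
  have h2 : ⁅⁅eSeq x y 2, y⁆, eSeq x y s⁆ ∈ K Y (s + 2 + 1 + 1) := by
    have h21 := comm_mem (by norm_num) (by omega) (e_comm_y h (i := 2) le_rfl (by omega)) hes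
    rwa [show 2 + 2 + s = s + 2 + 1 + 1 from by omega] at h21
  -- the third term
  have h3 : ⁅⁅y, eSeq x y s⁆, eSeq x y 2⁆ ∈ K Y (s + 2 + 1 + 1) := by
    have h31 : ⁅y, eSeq x y s⁆ ∈ K Y (s + 2) := by
      rw [comm_swap (eSeq x y s) y, inv_mem_iff]
      exact e_comm_y h hs2 (by omega)
    have h32 := comm_mem (by omega) (by norm_num) h31 he2
    rwa [show s + 2 + 2 = s + 2 + 1 + 1 from by omega] at h32
  have h1 : ⁅⁅eSeq x y s, eSeq x y 2⁆, y⁆ ∈ K Y (s + 2 + 1 + 1) :=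
    jacobi_first (by omega) (by norm_num) (by norm_num) hes he2 hy1 h2 h3
  have hab : ⁅eSeq x y s, eSeq x y 2⁆ ∈ K Y (s + 1 + 1) := by
    have h4 := comm_mem (by omega) (by norm_num) hes he2
    rwa [show s + 2 = s + 1 + 1 from by omega] at h4
  have htop := comm_e_top h
  rw [Nat.add_sub_cancel] at htop
  have hc := comm_cong_left (i := s + 1 + 1) (j := 1) (by omega) le_rfl hab htop hy1
  have h5 : ⁅(⁅eSeq x y (s + 1), y⁆)⁻¹, y⁆ ∈ K Y (s + 1 + 1 + 1 + 1) := by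
    refine hc.mem_succ ?_
    rwa [show s + 2 + 1 + 1 = s + 1 + 1 + 1 + 1 from by omega] at h1
  have hE : ⁅eSeq x y (s + 1), y⁆ ∈ K Y (s + 1 + 1) := E_mem h
  have h6 := (comm_inv_left_cong (i := s + 1 + 1) (j := 1) (by omega) le_rfl hE hy1).mem_succ h5
  rw [inv_mem_iff] at h6
  rwa [show s + 1 + 3 = s + 1 + 1 + 1 + 1 from by omega]

theorem comm_et_e2 (h : KeyHyp p n t Y x y) :
    Cong Y (t + 2) ⁅eSeq x y t, eSeq x y 2⁆ ⁅⁅eSeq x y t, y⁆, x⁆ := by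
  have ht3 := h.ht3
  have hy1 : y ∈ K Y 1 := by rw [K_one]; trivial
  have hx1 : x ∈ K Y 1 := by rw [K_one]; trivial
  have het : eSeq x y t ∈ K Y t := e_mem h (by omega) le_rfl
  -- the third term of the Jacobi identity for `(e_t, y, x)`
  have h3 : ⁅⁅x, eSeq x y t⁆, y⁆ ∈ K Y (t + 1 + 1 + 1) := by
    have h31 : ⁅x, eSeq x y t⁆ ∈ K Y (t + 2) := by
      rw [comm_swap (eSeq x y t) x, inv_mem_iff]
      exact et_comm_x h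
    exact comm_mem_succ (by omega) h31 y
  have hj := jacobi_two' (by omega) le_rfl le_rfl het hy1 hx1 h3
  have he2 : ⁅⁅y, x⁆, eSeq x y t⁆⁻¹ = ⁅eSeq x y t, eSeq x y 2⁆ := by
    rw [comm_swap (eSeq x y t) ⁅y, x⁆, inv_inv]
    rfl
  rw [he2] at hj
  exact hj.symm

end Cfsg.Agent.Helper21.MC
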