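import Mathlib
import Cfsg.Agent.Lib.MC.MCDefs
import Cfsg.Agent.Lib.MC.MCK
import Cfsg.Agent.Lib.MC.MCCong
import Cfsg.Agent.Lib.MC.MCBil
import Cfsg.Agent.Lib.MC.MCJac
import Cfsg.Agent.Lib.MC.MCCard
import Cfsg.Agent.Lib.MC.MCGen
import Cfsg.Agent.Lib.MC.MCFrat
import Cfsg.Agent.Lib.MC.MCTwo
import Cfsg.Agent.Lib.MC.MCKeyA
import Cfsg.Agent.Lib.MC.MCKeyB
import Cfsg.Agent.Lib.MC.MCKeyC
import Cfsg.Agent.Lib.MC.MCKeyD
import Cfsg.Agent.Lib.MC.MCKeyE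

/-!
# PIECE MC-KEYF: conclusion of the key step: `2 p ≤ t` (medium)

`f = ⁅E, x⁆`, `E = ⁅e_t, y⁆`.
* `f_not_mem`: if `f ∈ K (t+3)` then, with `E_comm_y`, both `x` and `y` satisfy `InM Y (t+1)` (`inM_iff_gen` with
  `e = E`, `E_mem`, `E_not_mem`; `(t+1)+2 ≤ n` by `htn`); the subgroup of `exists_M` (`i = t+1`) then contains
  `closure {x,y} = ⊤` (`closure_xy`), so its index is `1 ≠ p`.
* `p_dvd_t`: `comm_e_e_t2` at `i = 2`: `⁅e_2,e_t⁆ ≡ f ^ (t-1)`; `comm_et_e2` and `comm_swap`: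
  `⁅e_2,e_t⁆ = ⁅e_t,e_2⁆⁻¹ ≡ f⁻¹`.  So `f ^ t ∈ K (t+3)` and `dvd_of_zpow_mem` (`f ∈ K (t+2)` by `comm_mem_succ`).
* `two_p_le_t`: `t` even (`t_even`), `p ∣ t`, `p` odd, `t > 0`.
-/

set_option autoImplicit false

namespace Cfsg.Agent.Helper21.MC

open scoped commutatorElement

variable {Y : Type*} [Group Y] [Finite Y] {p : ℕ} [Fact p.Prime] {n t : ℕ} {x y : Y}

theorem f_not_mem (h : KeyHyp p n t Y x y) : ⁅⁅eSeq x y t, y⁆, x⁆ ∉ K Y (t + 3) := by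
  intro hf
  have hn := h.hn
  have htn := h.htn
  have ht3 := h.ht3
  have hi : 2 ≤ t + 1 := by omega
  have hin : t + 1 + 2 ≤ n := by omega
  have e3 : t + 1 + 2 = t + 3 := by omega
  have key := fun g => inM_iff_gen (p := p) hn h.mc hi hin (E_mem h) (E_not_mem h) g
  have hxM : InM Y (t + 1) x := by
    rw [key x, e3]; exact hf
  have hyM : InM Y (t + 1) y := by
    rw [key y, e3]; exact E_comm_y h
  obtain ⟨H, hH, hidx, _⟩ := exists_M (p := p) hn h.mc hi hin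
  have hxH : x ∈ H := (hH x).2 hxM
  have hyH : y ∈ H := (hH y).2 hyM
  have hle : Subgroup.closure {x, y} ≤ H := by
    rw [Subgroup.closure_le]
    intro g hg
    rcases hg with rfl | rfl
    · exact hxH
    · exact hyH
  rw [closure_xy h] at hle
  have hHtop : H = ⊤ := top_le_iff.mp hle
  rw [hHtop, Subgroup.index_top] at hidx
  exact (Fact.out : p.Prime).one_lt.ne hidx

theorem p_dvd_t (h : KeyHyp p n t Y x y) : p ∣ t := by
  have hn := h.hn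
  have htn := h.htn
  have ht3 := h.ht3
  have h1 := comm_e_e_t2 h (i := 2) (le_refl 2) (by omega)
  have e1 : t + 2 - 2 = t := by omega
  rw [e1] at h1
  have h2 := (comm_et_e2 h).inv
  rw [← comm_swap] at h2
  have h3 := h2.symm.trans h1
  -- h3 : Cong (t+2) f⁻¹ (f ^ ((-1)^2 * (t - 2 + 1)))
  unfold Cong at h3
  rw [inv_inv] at h3
  have e2 : ((-1 : ℤ) ^ 2 * ((t : ℤ) - (2 : ℕ) + 1)) = (t : ℤ) - 1 := by push_cast; ring
  rw [e2] at h3
  have h4 : ⁅⁅eSeq x y t, y⁆, x⁆ ^ (t : ℤ) ∈ K Y (t + 2 + 1) := by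
    have : ⁅⁅eSeq x y t, y⁆, x⁆ ^ (t : ℤ)
        = ⁅⁅eSeq x y t, y⁆, x⁆ * ⁅⁅eSeq x y t, y⁆, x⁆ ^ ((t : ℤ) - 1) := by
      rw [← zpow_one_add]; congr 1; ring
    rw [this]; exact h3
  have hfm : ⁅⁅eSeq x y t, y⁆, x⁆ ∈ K Y (t + 2) := by
    have := comm_mem_succ (i := t + 1) (by omega) (E_mem h) x
    exact this
  have hfn : ⁅⁅eSeq x y t, y⁆, x⁆ ∉ K Y (t + 2 + 1) := f_not_mem h
  have := dvd_of_zpow_mem (p := p) hn h.mc (i := t + 2) (by omega) (by omega) hfm hfn h4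
  exact Int.natCast_dvd_natCast.mp this

theorem two_p_le_t (h : KeyHyp p n t Y x y) : 2 * p ≤ t := by
  have ht3 := h.ht3
  have hp : p.Prime := Fact.out
  have hpt := p_dvd_t h
  have h2t : 2 ∣ t := (t_even h).two_dvd
  have hcop : Nat.Coprime 2 p := by
    rw [Nat.coprime_primes Nat.prime_two hp]
    exact fun e => h.podd e.symm
  have : 2 * p ∣ t := hcop.mul_dvd_of_dvd_of_dvd h2t hpt
  exact Nat.le_of_dvd (by omega) this

end Cfsg.Agent.Helper21.MC
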