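import Mathlib
import Cfsg.Agent.Lib.MC.MCDefs
import Cfsg.Agent.Lib.MC.MCK
import Cfsg.Agent.Lib.MC.MCCong
import Cfsg.Agent.Lib.MC.MCBil
import Cfsg.Agent.Lib.MC.MCCard
import Cfsg.Agent.Lib.MC.MCGen
import Cfsg.Agent.Lib.MC.MCFrat
import Cfsg.Agent.Lib.MC.MCTwo
import Cfsg.Agent.Lib.MC.MCKeyA
import Cfsg.Agent.Lib.MC.MCKeyF

/-!
# PIECE MC-ALLEQ: all two-step centralizers `M_i`, `2 ≤ i ≤ n - 3`, coincide when `n < 2 p + 3` (small-medium)

Strong induction on `i`.  For `i = t ≥ 3` with `M_j = M_2` for `2 ≤ j < t`: take the subgroups `H_t`, `H_2` of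
`exists_M`; if they differ, `exists_mem_not_mem` (both ways) gives `x ∈ H_t \ H_2`, `y ∈ H_2 \ H_t`; these satisfy
`KeyHyp p n t Y x y`, so `2 p ≤ t` (`two_p_le_t`), but `t + 3 ≤ n < 2 p + 3`.
-/

set_option autoImplicit false

namespace Cfsg.Agent.Helper21.MC

open scoped commutatorElement

variable {Y : Type*} [Group Y] [Finite Y] {p : ℕ} [Fact p.Prime] {n : ℕ}

theorem M_all_eq (hn : 3 ≤ n) (hY : IsMC p n Y) (hp : p ≠ 2) (hnp : n < 2 * p + 3) :
    ∀ i, 2 ≤ i → i + 3 ≤ n → ∀ g, InM Y i g ↔ InM Y 2 g := by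
  intro i
  induction i using Nat.strong_induction_on with
  | _ t ih =>
    intro ht2 htn
    rcases Nat.lt_or_ge t 3 with hlt | hge
    · have : t = 2 := by omega
      subst this
      intro g
      exact Iff.rfl
    · obtain ⟨Ht, hHt, hit, -⟩ := exists_M (p := p) (n := n) hn hY (i := t) ht2 (by omega)
      obtain ⟨H2, hH2, hi2, -⟩ := exists_M (p := p) (n := n) hn hY (i := 2) (le_refl 2) (by omega)
      by_cases heq : Ht = H2
      · intro g
        rw [← hHt g, ← hH2 g, heq]
      · exfalso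
        obtain ⟨x, hx1, hx2⟩ := exists_mem_not_mem (p := p) Ht H2 hit hi2 heq
        obtain ⟨y, hy1, hy2⟩ := exists_mem_not_mem (p := p) H2 Ht hi2 hit (fun h => heq h.symm)
        have hkey : KeyHyp p n t Y x y :=
          { mc := hY
            podd := hp
            ht3 := hge
            htn := htn
            heq := fun j hj2 hjt => ih j hjt hj2 (by omega)
            hx := (hHt x).1 hx1
            hx2 := fun h => hx2 ((hH2 x).2 h)
            hy := (hH2 y).1 hy1
            hyt := fun h => hy2 ((hHt y).2 h) }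
        have := two_p_le_t hkey
        omega

end Cfsg.Agent.Helper21.MC
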