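import Mathlib
import Cfsg.Agent.Lib.MC.MCDefs
import Cfsg.Agent.Lib.MC.MCK
import Cfsg.Agent.Lib.MC.MCCong
import Cfsg.Agent.Lib.MC.MCBil
import Cfsg.Agent.Lib.MC.MCCard
import Cfsg.Agent.Lib.MC.MCGen
import Cfsg.Agent.Lib.MC.MCFrat
import Cfsg.Agent.Lib.MC.MCTwo
import Cfsg.Agent.Lib.MC.MCAllEq

/-!
# PIECE MC-UNIF: existence of a uniform element and its basic properties (medium)

`IsUniform n Y s`: `¬ InM Y i s` for all `2 ≤ i ≤ n - 2`.
* `exists_uniform` (`n ≥ 4`): subgroups `H_2`, `H_{n-2}` from `exists_M`; `exists_not_mem_two` gives `s` outside both;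
  for `2 ≤ i ≤ n-3` use `M_all_eq`.
* `uniform_comm`: `comm_not_mem_of_not_inM`.
* `mem_of_commute`: if `a ∈ K 2` commutes with `s` and `a ∉ K (n-1)`, take the largest `i` with `a ∈ K i`
  (`2 ≤ i ≤ n-2`); then `⁅a,s⁆ = 1 ∉ K (i+2)` is absurd.
* `card_centralizer_le`: `C = centralizer {s}`; `C ⊓ K 2 ≤ K (n-1)`, which has order `p` (`card_K`);
  `C ⊔ K 2 ≠ ⊤` (else `C = ⊤` by `sup_K_two_eq_top`, so `s` is central, so `InM Y 2 s`), hence
  `|C : C ⊓ K 2| = |C K_2 : K_2| ≤ p` as `|Y : K 2| = p ^ 2`.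
-/

set_option autoImplicit false

namespace Cfsg.Agent.Helper21.MC

open scoped commutatorElement

variable {Y : Type*} [Group Y] [Finite Y] {p : ℕ} [Fact p.Prime] {n : ℕ}

theorem exists_uniform (hn : 4 ≤ n) (hY : IsMC p n Y) (hp : p ≠ 2) (hnp : n < 2 * p + 3) :
    ∃ s : Y, IsUniform n Y s := by
  obtain ⟨H₁, hH₁, hi₁, -⟩ := exists_M (i := 2) (by omega : 3 ≤ n) hY le_rfl (by omega)
  obtain ⟨H₂, hH₂, hi₂, -⟩ := exists_M (i := n - 2) (by omega : 3 ≤ n) hY (by omega) (by omega)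
  obtain ⟨s, hs₁, hs₂⟩ := exists_not_mem_two H₁ H₂ hi₁ hi₂
  refine ⟨s, ?_⟩
  intro i hi hin
  by_cases h3 : i + 3 ≤ n
  · intro hc
    apply hs₁
    rw [hH₁]
    exact (M_all_eq (by omega : 3 ≤ n) hY hp hnp i hi h3 s).mp hc
  · have hieq : i = n - 2 := by omega
    subst hieq
    intro hc
    exact hs₂ ((hH₂ s).mpr hc)

theorem uniform_comm (hn : 4 ≤ n) (hY : IsMC p n Y) {s : Y} (hs : IsUniform n Y s) {i : ℕ}
    (hi : 2 ≤ i) (hin : i + 2 ≤ n) {a : Y} (ha : a ∈ K Y i) (ha' : a ∉ K Y (i + 1)) :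
    ⁅a, s⁆ ∉ K Y (i + 2) :=
  comm_not_mem_of_not_inM (by omega : 3 ≤ n) hY hi hin (hs i hi hin) ha ha'

theorem mem_of_commute (hn : 4 ≤ n) (hY : IsMC p n Y) {s : Y} (hs : IsUniform n Y s) {a : Y}
    (ha : a ∈ K Y 2) (hc : a * s = s * a) : a ∈ K Y (n - 1) := by
  classical
  by_contra hna
  have hex : ∃ j, a ∉ K Y j := ⟨n - 1, hna⟩
  have hjspec : a ∉ K Y (Nat.find hex) := Nat.find_spec hex
  have hjmin : ∀ m, m < Nat.find hex → a ∈ K Y m := fun m hm => by
    by_contra h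
    exact Nat.find_min hex hm h
  have hjle : Nat.find hex ≤ n - 1 := Nat.find_min' hex hna
  have hj3 : 3 ≤ Nat.find hex := by
    by_contra hlt
    have hle2 : Nat.find hex ≤ 2 := by omega
    exact hjspec (K_antitone hle2 ha)
  obtain ⟨i, hi⟩ : ∃ i, Nat.find hex = i + 1 := ⟨Nat.find hex - 1, by omega⟩
  have hai : a ∈ K Y i := hjmin i (by omega)
  have hai' : a ∉ K Y (i + 1) := by rw [← hi]; exact hjspec
  have h1 := uniform_comm hn hY hs (i := i) (by omega) (by omega) hai hai'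
  apply h1
  have hcomm : ⁅a, s⁆ = 1 := by
    rw [commutatorElement_eq_one_iff_commute]
    exact hc
  rw [hcomm]
  exact (K Y (i + 2)).one_mem

theorem mcunif_dvd_aux {d e q : ℕ} (hq : q.Prime) (h : d * e = q ^ 2) (he : e ≠ 1) : d ≤ q := by
  have hd : d ∣ q ^ 2 := ⟨e, h.symm⟩
  obtain ⟨k, hk, rfl⟩ := (Nat.dvd_prime_pow hq).1 hd
  have hk1 : k ≤ 1 := by
    by_contra hlt
    have hk2 : k = 2 := by omega
    subst hk2
    apply he
    have hpos : 0 < q ^ 2 := pow_pos hq.pos 2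
    exact Nat.eq_of_mul_eq_mul_left hpos (by rw [h, mul_one])
  calc q ^ k ≤ q ^ 1 := Nat.pow_le_pow_right hq.pos hk1
    _ = q := pow_one q

theorem card_centralizer_le (hn : 4 ≤ n) (hY : IsMC p n Y) {s : Y} (hs : IsUniform n Y s) :
    Nat.card (Subgroup.centralizer ({s} : Set Y)) ≤ p ^ 2 := by
  have hp : p.Prime := Fact.out
  set C : Subgroup Y := Subgroup.centralizer ({s} : Set Y) with hC
  have hn3 : 3 ≤ n := by omega
  -- `C ⊓ K 2 ≤ K (n-1)`
  have hinf : K Y 2 ⊓ C ≤ K Y (n - 1) := by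
    rintro a ⟨ha2, haC⟩
    apply mem_of_commute hn hY hs ha2
    have h1 := Subgroup.mem_centralizer_iff.mp haC s (Set.mem_singleton s)
    exact h1.symm
  have hcard1 : Nat.card ↥(K Y 2 ⊓ C) ≤ p := by
    have h1 := Subgroup.card_le_of_le hinf
    have h2 := card_K hn3 hY (n - 1) (by omega) (by omega)
    rw [h2, show n - (n - 1) = 1 by omega, pow_one] at h1
    exact h1
  -- `C ⊔ K 2 ≠ ⊤`
  have hsup : C ⊔ K Y 2 ≠ ⊤ := by
    intro htop
    have hCtop : C = ⊤ := sup_K_two_eq_top hn3 hY C htop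
    apply hs 2 le_rfl (by omega)
    intro a _
    have haC : a ∈ C := by rw [hCtop]; exact Subgroup.mem_top a
    have h1 := Subgroup.mem_centralizer_iff.mp haC s (Set.mem_singleton s)
    have hcomm : ⁅a, s⁆ = 1 := by
      rw [commutatorElement_eq_one_iff_commute]
      exact h1.symm
    rw [hcomm]
    exact (K Y (2 + 2)).one_mem
  -- index computation
  have hrel : (K Y 2).relIndex C ≤ p := by
    have h1 : (K Y 2).relIndex (C ⊔ K Y 2) * (C ⊔ K Y 2).index = (K Y 2).index :=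
      Subgroup.relIndex_mul_index le_sup_right
    rw [index_K_two hn3 hY] at h1
    have h2 : (C ⊔ K Y 2).index ≠ 1 := by
      intro h
      exact hsup (Subgroup.index_eq_one.mp h)
    have h3 := mcunif_dvd_aux hp h1 h2
    rwa [Subgroup.relIndex_sup_right] at h3
  have hmul : (K Y 2 ⊓ C).relIndex C * Nat.card ↥(K Y 2 ⊓ C) = Nat.card C := by
    have hle : K Y 2 ⊓ C ≤ C := inf_le_right
    rw [Subgroup.relIndex, ← ((K Y 2 ⊓ C).subgroupOf C).index_mul_card]
    congr 1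
    exact (Nat.card_congr (Subgroup.subgroupOfEquivOfLe hle).toEquiv).symm
  rw [Subgroup.inf_relIndex_right] at hmul
  rw [← hmul, pow_two]
  exact Nat.mul_le_mul hrel hcard1

end Cfsg.Agent.Helper21.MC
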