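import Mathlib
import Cfsg.Agent.Lib.MC.MCDefs

/-!
# PIECE MC-POW: the `p`-th power of `x * s` for `x` in an abelian normal subgroup (medium-hard, self-contained)

`qProd x s 0 = 1`, `qProd x s (m+1) = x * (s * qProd x s m * s⁻¹)`; `iterComm x s 0 = x`,
`iterComm x s (m+1) = ⁅iterComm x s m, s⁆` (Mathlib: `⁅a, s⁆ = a * s * a⁻¹ * s⁻¹`).

* `mul_pow_eq_qProd`: induction on `m` (`(x*s)^(m+1) = (x*s) * (x*s)^m`), any group.
* `qProd_eq_pow`: write the abelian normal subgroup `N` additively; `σ a = s * a * s⁻¹` is an automorphism of `N` and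
  `τ a = ⁅a, s⁆ = a - σ a`, so `σ = 1 - τ`, `qProd x s m = ∑_{j<m} σ^j x`, `iterComm x s l = τ^l x`.  Then
  `∑_{j<p} (1-τ)^j = ∑_{l<p} (-1)^l (p.choose (l+1)) τ^l` (proved here in any ring by induction on `p` from the binomial
  theorem and Pascal's rule: `mcpow_geom`).  The term `l = 0` is `p • x`; for `1 ≤ l ≤ p-2`, `p ∣ p.choose (l+1)` and
  `τ^l x ∈ N'` has order dividing `p`; the term `l = p-1` is `τ^(p-1) x = 1` (`mcpow_add`, in the endomorphism ring of an
  additive commutative group).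
-/

set_option autoImplicit false

namespace Cfsg.Agent.Helper21.MC

open scoped commutatorElement

variable {Y : Type*} [Group Y]

theorem mul_pow_eq_qProd (x s : Y) (m : ℕ) : (x * s) ^ m = qProd x s m * s ^ m := by
  induction m with
  | zero => simp [qProd]
  | succ m ih =>
    show (x * s) ^ (m + 1) = x * (s * qProd x s m * s⁻¹) * s ^ (m + 1)
    rw [pow_succ', ih, pow_succ' s m]
    simp only [mul_assoc, inv_mul_cancel_left]

/-- ring identity: `∑_{j<p} (1-t)^j = ∑_{k<p} (-1)^k C(p,k+1) t^k` -/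
theorem mcpow_geom {R : Type*} [Ring R] (t : R) (p : ℕ) :
    ∑ j ∈ Finset.range p, (1 - t) ^ j =
      ∑ k ∈ Finset.range p, (-1) ^ k * (p.choose (k + 1) : R) * t ^ k := by
  induction p with
  | zero => simp
  | succ p ih =>
    rw [Finset.sum_range_succ, ih]
    have hb : (1 - t) ^ p = ∑ k ∈ Finset.range (p + 1), (-1) ^ k * (p.choose k : R) * t ^ k := by
      have hc : Commute (-t) (1 : R) := Commute.one_right _
      have h1 := hc.add_pow p
      rw [show (1 - t) = -t + 1 by rw [sub_eq_neg_add], h1]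
      refine Finset.sum_congr rfl fun k _ => ?_
      rw [one_pow, mul_one, neg_pow, mul_assoc, mul_assoc, (Nat.cast_commute (p.choose k) (t ^ k)).eq]
    rw [hb]
    have h0 : ∑ k ∈ Finset.range p, (-1) ^ k * (p.choose (k + 1) : R) * t ^ k =
        ∑ k ∈ Finset.range (p + 1), (-1) ^ k * (p.choose (k + 1) : R) * t ^ k := by
      rw [Finset.sum_range_succ, Nat.choose_succ_self, Nat.cast_zero, mul_zero, zero_mul, add_zero]
    rw [h0, ← Finset.sum_add_distrib]
    refine Finset.sum_congr rfl fun k _ => ?_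
    rw [Nat.choose_succ_succ' p k, Nat.cast_add, mul_add, add_mul, add_comm]

theorem mcpow_mul_apply {A : Type*} [AddCommGroup A] (f g : AddMonoid.End A) (a : A) :
    (f * g) a = f (g a) := rfl

theorem mcpow_add {A : Type*} [AddCommGroup A] (σ : AddMonoid.End A) (a : A) (p : ℕ) (hp : p.Prime)
    (h1 : ((1 - σ) ^ (p - 1)) a = 0) (h2 : ∀ k, 1 ≤ k → p • (((1 - σ) ^ k) a) = 0) :
    (∑ j ∈ Finset.range p, σ ^ j) a = p • a := by
  have hg := mcpow_geom (1 - σ) p
  rw [sub_sub_cancel] at hg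
  rw [hg]
  have happ : (∑ k ∈ Finset.range p, (-1) ^ k * (p.choose (k + 1) : AddMonoid.End A) * (1 - σ) ^ k) a =
      ∑ k ∈ Finset.range p, ((-1) ^ k * (p.choose (k + 1) : AddMonoid.End A) * (1 - σ) ^ k) a :=
    AddMonoidHom.finsetSum_apply _ _ _
  rw [happ, Finset.sum_eq_single 0]
  · simp
  · intro k hk hk0
    have hkp : k < p := Finset.mem_range.mp hk
    have hz : ((p.choose (k + 1) : AddMonoid.End A) * (1 - σ) ^ k) a = 0 := by
      rw [mcpow_mul_apply, AddMonoid.End.natCast_apply]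
      by_cases hlast : k + 1 = p
      · have : k = p - 1 := by omega
        rw [this, h1, smul_zero]
      · have hdvd : p ∣ p.choose (k + 1) := hp.dvd_choose_self (by omega) (by omega)
        obtain ⟨c, hc⟩ := hdvd
        rw [hc, mul_comm, mul_smul, h2 k (by omega), smul_zero]
    rw [mul_assoc, mcpow_mul_apply, hz, map_zero]
  · intro h
    exact absurd (Finset.mem_range.mpr hp.pos) h

open scoped IsMulCommutative in
theorem qProd_eq_pow {p : ℕ} [Fact p.Prime] (N N' : Subgroup Y) [N.Normal]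
    (hab : ∀ a ∈ N, ∀ b ∈ N, a * b = b * a) (hN' : N' ≤ N) {x s : Y} (hx : x ∈ N)
    (hxs : ⁅x, s⁆ ∈ N') (hst : ∀ b ∈ N', ⁅b, s⁆ ∈ N') (hexp : ∀ b ∈ N', b ^ p = 1)
    (hic : iterComm x s (p - 1) = 1) : qProd x s p = x ^ p := by
  have hcomm : IsMulCommutative ↥N := ⟨⟨fun a b => Subtype.ext (hab a a.2 b b.2)⟩⟩
  let c : ↥N →* ↥N := (MulAut.conjNormal s : MulAut ↥N).toMonoidHom
  have hc : ∀ a : ↥N, ((c a : ↥N) : Y) = s * a * s⁻¹ := fun a => MulAut.conjNormal_apply s a
  let σ : AddMonoid.End (Additive ↥N) := MonoidHom.toAdditive c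
  have hσ : ∀ a : Additive ↥N, σ a = Additive.ofMul (c (Additive.toMul a)) := fun a => rfl
  let x' : Additive ↥N := Additive.ofMul ⟨x, hx⟩
  -- `qProd` as a geometric sum
  have hQ : ∀ m : ℕ,
      ((Additive.toMul ((∑ j ∈ Finset.range m, σ ^ j) x') : ↥N) : Y) = qProd x s m := by
    intro m
    induction m with
    | zero => simp [qProd]
    | succ m ih =>
      rw [Finset.sum_range_succ', pow_zero]
      have h1 : ∑ j ∈ Finset.range m, σ ^ (j + 1) = σ * ∑ j ∈ Finset.range m, σ ^ j := by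
        rw [Finset.mul_sum]
        exact Finset.sum_congr rfl fun j _ => pow_succ' σ j
      rw [h1]
      show ((Additive.toMul (σ ((∑ j ∈ Finset.range m, σ ^ j) x') + x') : ↥N) : Y) =
        x * (s * qProd x s m * s⁻¹)
      rw [toMul_add, Subgroup.coe_mul, hσ, toMul_ofMul, hc, ih]
      have hmem : s * qProd x s m * s⁻¹ ∈ N := by
        rw [← ih, ← hc]
        exact (c _).2
      exact hab _ hmem _ hx
  -- iterated commutators as powers of `τ = 1 - σ`
  have hT : ∀ k : ℕ, ((Additive.toMul (((1 - σ) ^ k) x') : ↥N) : Y) = iterComm x s k := by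
    intro k
    induction k with
    | zero => rfl
    | succ k ih =>
      rw [pow_succ', mcpow_mul_apply]
      show ((Additive.toMul (((1 - σ) ^ k) x' - σ (((1 - σ) ^ k) x')) : ↥N) : Y) =
        ⁅iterComm x s k, s⁆
      rw [toMul_sub, Subgroup.coe_div, hσ, toMul_ofMul, hc, ih, commutatorElement_def,
        div_eq_mul_inv]
      group
  have hN'k : ∀ k : ℕ, 1 ≤ k → iterComm x s k ∈ N' := by
    intro k hk
    induction k with
    | zero => omega
    | succ k ih =>
      rcases Nat.eq_zero_or_pos k with h0 | hpos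
      · subst h0
        exact hxs
      · exact hst _ (ih hpos)
  have h1 : ((1 - σ) ^ (p - 1)) x' = 0 := by
    have h2 : Additive.toMul (((1 - σ) ^ (p - 1)) x') = 1 := by
      apply Subtype.ext
      rw [hT, hic]
      rfl
    exact toMul_eq_one.mp h2
  have h2 : ∀ k, 1 ≤ k → p • (((1 - σ) ^ k) x') = 0 := by
    intro k hk
    have h3 : Additive.toMul (p • (((1 - σ) ^ k) x')) = 1 := by
      apply Subtype.ext
      rw [toMul_nsmul, Subgroup.coe_pow, hT, hexp _ (hN'k k hk)]
      rfl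
    exact toMul_eq_one.mp h3
  have hmain := mcpow_add σ x' p (Fact.out) h1 h2
  rw [← hQ p, hmain, toMul_nsmul, Subgroup.coe_pow]
  rfl

end Cfsg.Agent.Helper21.MC
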