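import Mathlib
import Cfsg.Agent.Lib.MC.MCDefs
import Cfsg.Agent.Lib.MC.MCK
import Cfsg.Agent.Lib.MC.MCCong
import Cfsg.Agent.Lib.MC.MCBil
import Cfsg.Agent.Lib.MC.MCCard
import Cfsg.Agent.Lib.MC.MCGen
import Cfsg.Agent.Lib.MC.MCFrat
import Cfsg.Agent.Lib.MC.MCTwo
import Cfsg.Agent.Lib.MC.MCUnif

/-!
# PIECE MC-UNIFB: the conjugacy class of a uniform element is the coset `K_2 s` (medium)

* `pow_p_mem_center`: `s ^ p ∈ K 2` (`pow_p_mem_K_two`) commutes with `s`, so `s ^ p ∈ K (n-1)` (`mem_of_commute`),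
  which is central (`K_pred_le_center`).
* `exists_conj`: the conjugates `g * s * g⁻¹ = ⁅g, s⁆ * s` all lie in `K_2 s`; their number is
  `|Y| / |C(s)| ≥ p ^ n / p ^ 2 = |K 2|` (`card_centralizer_le`, `card_K`; orbit-stabilizer for the conjugation action,
  e.g. `MulAction.card_orbit_mul_card_stabilizer_eq_card_group` with `ConjAct`, or count directly: the map
  `g ↦ ⁅g, s⁆` from `Y` to `K 2` has fibres the cosets of the centralizer), so every element of `K_2 s` is a conjugate.
* `mul_pow_p`: `(x * s) ^ p = (g * s * g⁻¹) ^ p = g * s ^ p * g⁻¹ = s ^ p`.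
-/

set_option autoImplicit false

namespace Cfsg.Agent.Helper21.MC

open scoped commutatorElement

variable {Y : Type*} [Group Y] [Finite Y] {p : ℕ} [Fact p.Prime] {n : ℕ}

theorem pow_p_mem_center (hn : 4 ≤ n) (hY : IsMC p n Y) {s : Y} (hs : IsUniform n Y s) :
    s ^ p ∈ Subgroup.center Y := by
  have hn3 : 3 ≤ n := by omega
  have h2 : s ^ p ∈ K Y 2 := pow_p_mem_K_two hn3 hY s
  have hc : s ^ p * s = s * s ^ p := by rw [← pow_succ, ← pow_succ']
  exact K_pred_le_center hn3 hY (mem_of_commute hn hY hs h2 hc)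

/-- the map `g ↦ ⁅g, s⁆` on the left cosets of the centralizer of `s` -/
noncomputable def unifbMap (s : Y) : Y ⧸ Subgroup.centralizer ({s} : Set Y) → K Y 2 :=
  Quotient.lift (s := QuotientGroup.leftRel (Subgroup.centralizer ({s} : Set Y)))
    (fun g : Y => (⟨⁅g, s⁆, by
      have hg : g ∈ K Y 1 := by rw [K_one]; exact Subgroup.mem_top g
      exact comm_mem_succ (le_refl 1) hg s⟩ : K Y 2))
    (by
      intro a b hab
      rw [Subtype.mk.injEq]
      have hab' : a⁻¹ * b ∈ Subgroup.centralizer ({s} : Set Y) := QuotientGroup.leftRel_apply.mp hab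
      rw [Subgroup.mem_centralizer_iff] at hab'
      have h1 : s * (a⁻¹ * b) = a⁻¹ * b * s := hab' s (Set.mem_singleton s)
      rw [commutatorElement_def, commutatorElement_def]
      have h2 : b * s * b⁻¹ = a * s * a⁻¹ := by
        have hb : b = a * (a⁻¹ * b) := by group
        calc b * s * b⁻¹ = a * ((a⁻¹ * b) * s) * (a⁻¹ * b)⁻¹ * a⁻¹ := by
              conv_lhs => rw [hb]
              group
          _ = a * (s * (a⁻¹ * b)) * (a⁻¹ * b)⁻¹ * a⁻¹ := by rw [h1]
          _ = a * s * a⁻¹ := by group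
      rw [h2])

omit [Finite Y] in
theorem unifbMap_mk (s g : Y) : ((unifbMap s (QuotientGroup.mk g) : K Y 2) : Y) = ⁅g, s⁆ := rfl

omit [Finite Y] in
theorem unifbMap_injective (s : Y) : Function.Injective (unifbMap (Y := Y) s) := by
  intro a b
  induction a using QuotientGroup.induction_on with
  | H a =>
    induction b using QuotientGroup.induction_on with
    | H b =>
      intro h
      have h' : ⁅a, s⁆ = ⁅b, s⁆ := by
        have := congrArg (Subtype.val) h
        simpa [unifbMap_mk] using this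
      rw [QuotientGroup.eq, Subgroup.mem_centralizer_iff]
      intro z hz
      rw [Set.mem_singleton_iff] at hz
      subst hz
      rw [commutatorElement_def, commutatorElement_def] at h'
      have h2 : a * z * a⁻¹ = b * z * b⁻¹ := by
        have := congrArg (· * z) h'
        simpa [mul_assoc] using this
      calc z * (a⁻¹ * b) = a⁻¹ * (a * z * a⁻¹) * b := by group
        _ = a⁻¹ * (b * z * b⁻¹) * b := by rw [h2]
        _ = a⁻¹ * b * z := by group

theorem exists_conj (hn : 4 ≤ n) (hY : IsMC p n Y) {s : Y} (hs : IsUniform n Y s) {x : Y}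
    (hx : x ∈ K Y 2) : ∃ g : Y, g * s * g⁻¹ = x * s := by
  have hn3 : 3 ≤ n := by omega
  have hp : 0 < p := (Fact.out : p.Prime).pos
  set Z := Subgroup.centralizer ({s} : Set Y) with hZ
  have hZle : Nat.card Z ≤ p ^ 2 := card_centralizer_le hn hY hs
  have hK2 : Nat.card (K Y 2) = p ^ (n - 2) := card_K hn3 hY 2 (le_refl 2) (by omega)
  have hidx : Z.index * Nat.card Z = p ^ n := by
    rw [mul_comm, Subgroup.card_mul_index, hY.1]
  have hle : Nat.card (K Y 2) ≤ Nat.card (Y ⧸ Z) := by
    rw [hK2]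
    change p ^ (n - 2) ≤ Z.index
    have h1 : p ^ (n - 2) * p ^ 2 = p ^ n := by rw [← pow_add]; congr 1; omega
    have h2 : p ^ (n - 2) * p ^ 2 ≤ Z.index * p ^ 2 := by
      rw [h1, ← hidx]
      exact Nat.mul_le_mul_left _ hZle
    exact Nat.le_of_mul_le_mul_right h2 (pow_pos hp 2)
  have hbij := (unifbMap_injective (Y := Y) s).bijective_of_nat_card_le hle
  obtain ⟨c, hc⟩ := hbij.2 ⟨x, hx⟩
  induction c using QuotientGroup.induction_on with
  | H g =>
    refine ⟨g, ?_⟩
    have h' : ⁅g, s⁆ = x := by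
      have := congrArg (Subtype.val) hc
      simpa [unifbMap_mk] using this
    rw [← h', commutatorElement_def]
    group

theorem mul_pow_p (hn : 4 ≤ n) (hY : IsMC p n Y) {s : Y} (hs : IsUniform n Y s) {x : Y}
    (hx : x ∈ K Y 2) : (x * s) ^ p = s ^ p := by
  obtain ⟨g, hg⟩ := exists_conj hn hY hs hx
  have hc := pow_p_mem_center hn hY hs
  rw [Subgroup.mem_center_iff] at hc
  rw [← hg, conj_pow, hc g, mul_inv_cancel_right]

end Cfsg.Agent.Helper21.MC
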