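import Mathlib
import Cfsg.Agent.Lib.MC.MCDefs
import Cfsg.Agent.Lib.MC.MCK
import Cfsg.Agent.Lib.MC.MCCong
import Cfsg.Agent.Lib.MC.MCBil
import Cfsg.Agent.Lib.MC.MCCard
import Cfsg.Agent.Lib.MC.MCGen
import Cfsg.Agent.Lib.MC.MCFrat
import Cfsg.Agent.Lib.MC.MCTwo
import Cfsg.Agent.Lib.MC.MCUnif
import Cfsg.Agent.Lib.MC.MCUnifB
import Cfsg.Agent.Lib.MC.MCPow

/-!
# PIECE MC-EXP: in a group of maximal class of order `p ^ (2k+1)` with `k + 2 ≤ p`, `K k` is elementary abelian (medium)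

* `K_abelian` (`n ≤ 2k+1`): `⁅K k, K (k+1)⁆ ≤ K (2k+1) = ⊥` (`K_comm_le`, `K_eq_bot`), and `K k` is generated modulo
  `K (k+1)` by one element (`exists_pow_cong`; if `k ≥ n` then `K k = ⊥`): `a = e^r u`, `b = e^r' u'` with
  `u, u' ∈ K (k+1)` central in `K k`.
* `K_exp` (`n = 2k+1`, `s` uniform): by downward induction on `i` (induction on `n - i`; for `i ≥ n`, `K i = ⊥`):
  for `a ∈ K i`, `k ≤ i`: `(a * s) ^ p = s ^ p` (`mul_pow_p`, `a ∈ K 2`), `(a * s) ^ p = qProd a s p * s ^ p`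
  (`mul_pow_eq_qProd`), so `qProd a s p = 1`; and `qProd a s p = a ^ p` by `qProd_eq_pow` with `N = K k`,
  `N' = K (i+1)` (exponent `p` by the induction hypothesis), `iterComm a s (p-1) ∈ K (i+p-1) = ⊥` since
  `i + p - 1 ≥ k + (k+2) - 1 = n` (`iterComm_mem`).
-/

set_option autoImplicit false

namespace Cfsg.Agent.Helper21.MC

open scoped commutatorElement

variable {Y : Type*} [Group Y] [Finite Y] {p : ℕ} [Fact p.Prime] {n : ℕ}

theorem K_abelian (hn : 3 ≤ n) (hY : IsMC p n Y) {k : ℕ} (hk : 2 ≤ k) (hnk : n ≤ 2 * k + 1) :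
    ∀ a ∈ K Y k, ∀ b ∈ K Y k, a * b = b * a := by
  intro a ha b hb
  by_cases hkn : n ≤ k
  · have h0 := K_eq_bot hn hY k hkn
    rw [h0, Subgroup.mem_bot] at ha hb
    rw [ha, hb]
  · have hkn' : k + 1 ≤ n := by omega
    have hlt := K_succ_lt hn hY k (by omega) hkn'
    obtain ⟨e, he, he'⟩ := SetLike.exists_of_lt hlt
    have hc : ∀ c ∈ K Y k, ∀ u ∈ K Y (k + 1), c * u = u * c := by
      intro c hc u hu
      have h1 := comm_mem (Y := Y) (i := k) (j := k + 1) (by omega) (by omega) hc hu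
      rw [K_eq_bot hn hY (k + (k + 1)) (by omega), Subgroup.mem_bot] at h1
      exact commutatorElement_eq_one_iff_mul_comm.1 h1
    have hdec : ∀ c ∈ K Y k, ∃ r : ℕ, ∃ v ∈ K Y (k + 1), c = e ^ r * v := by
      intro c hc'
      obtain ⟨r, hr⟩ := exists_pow_cong hn hY hk hkn' he he' hc'
      refine ⟨r, (e ^ r)⁻¹ * c, ?_, by group⟩
      have h2 : c⁻¹ * e ^ r ∈ K Y (k + 1) := hr
      have h3 := inv_mem h2
      rwa [mul_inv_rev, inv_inv] at h3
    obtain ⟨r, v, hv, rfl⟩ := hdec a ha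
    obtain ⟨r', v', hv', rfl⟩ := hdec b hb
    have hE : e ^ r ∈ K Y k := pow_mem he r
    have hE' : e ^ r' ∈ K Y k := pow_mem he r'
    have h4 : e ^ r * e ^ r' = e ^ r' * e ^ r := by rw [← pow_add, ← pow_add, add_comm]
    generalize e ^ r = E at *
    generalize e ^ r' = E' at *
    have h1 : v * E' = E' * v := (hc E' hE' v hv).symm
    have h2 : v * v' = v' * v := (hc v' (K_antitone (Nat.le_succ k) hv') v hv).symm
    have h3 : v' * E = E * v' := (hc E hE v' hv').symm
    calc E * v * (E' * v') = E * (v * E') * v' := by group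
      _ = E * (E' * v) * v' := by rw [h1]
      _ = (E * E') * (v * v') := by group
      _ = (E' * E) * (v' * v) := by rw [h4, h2]
      _ = E' * (E * v') * v := by group
      _ = E' * (v' * E) * v := by rw [h3]
      _ = E' * v' * (E * v) := by group

theorem K_exp (hn : 4 ≤ n) (hY : IsMC p n Y) {k : ℕ} (hk : 2 ≤ k) (hnk : n = 2 * k + 1)
    (hkp : k + 2 ≤ p) {s : Y} (hs : IsUniform n Y s) :
    ∀ i, k ≤ i → ∀ a ∈ K Y i, a ^ p = 1 := by
  have hp1 : 1 ≤ p := (Fact.out : p.Prime).one_lt.le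
  have key : ∀ d : ℕ, ∀ i, k ≤ i → n - i ≤ d → ∀ a ∈ K Y i, a ^ p = 1 := by
    intro d
    induction d with
    | zero =>
      intro i hki hd a ha
      rw [K_eq_bot (by omega) hY i (by omega), Subgroup.mem_bot] at ha
      rw [ha, one_pow]
    | succ d ih =>
      intro i hki hd a ha
      by_cases hin : n ≤ i
      · rw [K_eq_bot (by omega) hY i hin, Subgroup.mem_bot] at ha
        rw [ha, one_pow]
      · have ha2 : a ∈ K Y 2 := K_antitone (by omega : 2 ≤ i) ha
        have e1 := mul_pow_p hn hY hs ha2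
        have e2 := mul_pow_eq_qProd a s p
        have e3 : qProd a s p = 1 := by
          rw [e1] at e2
          exact (mul_eq_right.1 e2.symm)
        have hab := K_abelian (by omega : 3 ≤ n) hY hk (le_of_eq hnk)
        have hic : iterComm a s (p - 1) = 1 := by
          have h1 := iterComm_mem (Y := Y) (i := i) (by omega) ha s (p - 1)
          rwa [K_eq_bot (by omega) hY (i + (p - 1)) (by omega), Subgroup.mem_bot] at h1
        have e4 := qProd_eq_pow (p := p) (K Y k) (K Y (i + 1)) hab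
          (K_antitone (by omega : k ≤ i + 1)) (K_antitone hki ha)
          (comm_mem_succ (by omega) ha s)
          (fun b hb => K_antitone (Nat.le_succ (i + 1)) (comm_mem_succ (by omega) hb s))
          (fun b hb => ih (i + 1) (by omega) (by omega) b hb) hic
        rw [← e4, e3]
  intro i hki a ha
  exact key (n - i) i hki le_rfl a ha

end Cfsg.Agent.Helper21.MC
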