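import Mathlib
import Cfsg.Agent.Lib.MC.MCDefs
import Cfsg.Agent.Lib.MC.MCK
import Cfsg.Agent.Lib.MC.MCCard

/-!
# PIECE MC-QUOT: the quotient of a group of maximal class by `K j` is of maximal class of order `p ^ j` (medium)

Recipe: `|Y ⧸ K j| = p ^ n / p ^ (n - j) = p ^ j` (`card_K`); `K (Y ⧸ K j) i = (K Y i).map mk` (`K_map`), which is
`⊥` iff `K Y i ≤ K Y j` iff `j ≤ i` (strictly decreasing chain, `K_succ_lt`); so the class of the quotient is
`j - 1` (`Subgroup.lowerCentralSeries_eq_bot_iff_nilpotencyClass_le`; the quotient is nilpotent as a finite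
`p`-group).
-/

set_option autoImplicit false

namespace Cfsg.Agent.Helper21.MC

open scoped commutatorElement

variable {Y : Type*} [Group Y] [Finite Y] {p : ℕ} [Fact p.Prime] {n : ℕ}

theorem K_quotient (j i : ℕ) :
    K (Y ⧸ K Y j) i = (K Y i).map (QuotientGroup.mk' (K Y j)) := by
  exact (K_map (QuotientGroup.mk' (K Y j)) (QuotientGroup.mk'_surjective _) i).symm

/-- membership in `K` of the quotient, for `i ≤ j` -/
theorem mk_mem_K_quotient_iff (j i : ℕ) (hij : i ≤ j) (a : Y) :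
    (QuotientGroup.mk' (K Y j) a) ∈ K (Y ⧸ K Y j) i ↔ a ∈ K Y i := by
  rw [K_quotient, Subgroup.mem_map]
  constructor
  · rintro ⟨b, hb, hba⟩
    have h1 : b⁻¹ * a ∈ K Y j := QuotientGroup.eq.mp hba
    have h2 : b⁻¹ * a ∈ K Y i := K_antitone hij h1
    have h3 : a = b * (b⁻¹ * a) := by group
    rw [h3]
    exact mul_mem hb h2
  · intro ha
    exact ⟨a, ha, rfl⟩

theorem isMC_quotient (hn : 3 ≤ n) (hY : IsMC p n Y) (j : ℕ) (hj : 3 ≤ j) (hjn : j ≤ n) :
    IsMC p j (Y ⧸ K Y j) := by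
  have hp : p.Prime := Fact.out
  have hcardY : Nat.card Y = p ^ n := hY.1
  have hcK : Nat.card (K Y j) = p ^ (n - j) := card_K hn hY j (by omega) hjn
  have hcard : Nat.card (Y ⧸ K Y j) = p ^ j := by
    have h := Subgroup.card_eq_card_quotient_mul_card_subgroup (K Y j)
    rw [hcardY, hcK] at h
    have h2 : p ^ n = p ^ j * p ^ (n - j) := by
      rw [← pow_add]
      congr 1
      omega
    have hpos : 0 < p ^ (n - j) := pow_pos hp.pos _
    exact Nat.eq_of_mul_eq_mul_right hpos (h.symm.trans h2)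
  refine ⟨hcard, ?_⟩
  have hPG : IsPGroup p (Y ⧸ K Y j) := IsPGroup.of_card hcard
  haveI : Group.IsNilpotent (Y ⧸ K Y j) := hPG.isNilpotent
  have hbot : K (Y ⧸ K Y j) j = ⊥ := by
    rw [K_quotient, Subgroup.map_eq_bot_iff, QuotientGroup.ker_mk']
  have hnebot : K (Y ⧸ K Y j) (j - 1) ≠ ⊥ := by
    intro h
    have hlt : K Y (j - 1 + 1) < K Y (j - 1) := K_succ_lt hn hY (j - 1) (by omega) (by omega)
    have hj1 : j - 1 + 1 = j := by omega
    rw [hj1] at hlt
    obtain ⟨a, ha, ha'⟩ := SetLike.exists_of_lt hlt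
    have h1 : (QuotientGroup.mk' (K Y j) a) ∈ K (Y ⧸ K Y j) (j - 1) :=
      (mk_mem_K_quotient_iff j (j - 1) (by omega) a).mpr ha
    rw [h, Subgroup.mem_bot] at h1
    have h2 : a ∈ K Y j := by
      have := (QuotientGroup.eq_one_iff (N := K Y j) a).mp h1
      exact this
    exact ha' h2
  have hle : Group.nilpotencyClass (Y ⧸ K Y j) ≤ j - 1 :=
    Subgroup.lowerCentralSeries_eq_bot_iff_nilpotencyClass_le.mp hbot
  have hge : ¬ Group.nilpotencyClass (Y ⧸ K Y j) ≤ j - 1 - 1 := by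
    intro hc
    exact hnebot (Subgroup.lowerCentralSeries_eq_bot_iff_nilpotencyClass_le.mpr hc)
  omega

end Cfsg.Agent.Helper21.MC
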