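import Mathlib
import Cfsg.Agent.Lib.MC.MCDefs
import Cfsg.Agent.Lib.MC.MCK
import Cfsg.Agent.Lib.MC.MCCong
import Cfsg.Agent.Lib.MC.MCBil
import Cfsg.Agent.Lib.MC.MCJac
import Cfsg.Agent.Lib.MC.MCCard
import Cfsg.Agent.Lib.MC.MCGen
import Cfsg.Agent.Lib.MC.MCFrat
import Cfsg.Agent.Lib.MC.MCTwo
import Cfsg.Agent.Lib.MC.MCKeyA
import Cfsg.Agent.Lib.MC.MCKeyB
import Cfsg.Agent.Lib.MC.MCKeyC
import Cfsg.Agent.Lib.MC.MCKeyD

/-!
# PIECE MC-KEYE: the brackets of degree `t + 2` (medium)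

`f = ⁅E, x⁆ = ⁅⁅e_t,y⁆,x⁆ ∈ K (t+2)`.
* `comm_e_shift2` (`2 ≤ i ≤ t-1`, `j = t+2-i`): Jacobi for `(e_i, e_{j-1}, x)`, degrees `(i, j-1, 1)`, modulo
  `K (t+3)`: first term `⁅⁅e_i,e_{t+1-i}⁆,x⁆ ≡ ⁅E^((-1)^i), x⁆ ≡ f ^ ((-1)^i)` (`comm_e_e_t1`, `comm_cong_left`,
  `comm_zpow_left_cong`); second term `⁅⁅e_{j-1},x⁆,e_i⁆ = ⁅e_j,e_i⁆ = ⁅e_i,e_j⁆⁻¹` (`e_succ`, needs `j-1 ≤ t-1`);
  third term `⁅⁅x,e_i⁆,e_{j-1}⁆ = ⁅e_{i+1}⁻¹,e_{j-1}⁆ ≡ ⁅e_{i+1},e_{j-1}⁆⁻¹`.  All terms lie in `K (t+2)` and commute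
  modulo `K (t+3)`.
* `comm_e_e_t2`: downward induction on `i` from `i = t` (`comm_et_e2`, `t` even) using `comm_e_shift2`:
  `d_i = (-1)^i - d_{i+1}` gives `d_i = (-1)^i (t - i + 1)`.
-/

set_option autoImplicit false

namespace Cfsg.Agent.Helper21.MC

open scoped commutatorElement

variable {Y : Type*} [Group Y] [Finite Y] {p : ℕ} [Fact p.Prime] {n t : ℕ} {x y : Y}

theorem comm_e_shift2 (h : KeyHyp p n t Y x y) {i : ℕ} (hi : 2 ≤ i) (hit : i + 1 ≤ t) :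
    Cong Y (t + 2) ⁅eSeq x y i, eSeq x y (t + 2 - i)⁆
      (⁅⁅eSeq x y t, y⁆, x⁆ ^ ((-1 : ℤ) ^ i) * (⁅eSeq x y (i + 1), eSeq x y (t + 1 - i)⁆)⁻¹) := by
  obtain ⟨k, hk⟩ : ∃ k, t + 1 - i = k := ⟨_, rfl⟩
  have hk2 : t + 2 - i = k + 1 := by omega
  have hik : i + k = t + 1 := by omega
  have hk_ge : 2 ≤ k := by omega
  have hk_le : k + 1 ≤ t := by omega
  have h1t : 1 ≤ t + 1 := by omega
  have hcomp := comm_e_e_t1 h hi hit
  rw [hk] at hcomp ⊢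
  rw [hk2]
  -- memberships
  have hx1 : x ∈ K Y 1 := by rw [K_one]; exact Subgroup.mem_top x
  have hei : eSeq x y i ∈ K Y i := e_mem h hi (by omega)
  have hek : eSeq x y k ∈ K Y k := e_mem h hk_ge (by omega)
  have hek1 : eSeq x y (k + 1) ∈ K Y (k + 1) := e_mem h (by omega) hk_le
  have hei1 : eSeq x y (i + 1) ∈ K Y (i + 1) := e_mem h (by omega) hit
  have hE : ⁅eSeq x y t, y⁆ ∈ K Y (t + 1) := E_mem h
  have hA : ⁅eSeq x y i, eSeq x y (k + 1)⁆ ∈ K Y (t + 2) := by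
    have := comm_mem (Y := Y) (i := i) (j := k + 1) (by omega) (by omega) hei hek1
    have e : i + (k + 1) = t + 2 := by omega
    rwa [e] at this
  have hB : ⁅eSeq x y (i + 1), eSeq x y k⁆ ∈ K Y (t + 2) := by
    have := comm_mem (Y := Y) (i := i + 1) (j := k) (by omega) (by omega) hei1 hek
    have e : i + 1 + k = t + 2 := by omega
    rwa [e] at this
  have hC : ⁅eSeq x y i, eSeq x y k⁆ ∈ K Y (t + 1) := by
    have := comm_mem (Y := Y) (i := i) (j := k) (by omega) (by omega) hei hek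
    rwa [hik] at this
  -- Jacobi
  have hJ := jacobi_cong (Y := Y) (i := i) (j := k) (k := 1) (by omega) (by omega) le_rfl hei hek hx1
  rw [hik] at hJ
  -- first term
  have hT1 : Cong Y (t + 2) ⁅⁅eSeq x y i, eSeq x y k⁆, x⁆
      (⁅⁅eSeq x y t, y⁆, x⁆ ^ ((-1 : ℤ) ^ i)) :=
    (comm_cong_left (Y := Y) (i := t + 1) (j := 1) h1t le_rfl hC hcomp hx1).trans
      (comm_zpow_left_cong (Y := Y) (i := t + 1) (j := 1) h1t le_rfl hE hx1 _)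
  -- second term
  have hT2 : ⁅⁅eSeq x y k, x⁆, eSeq x y i⁆⁻¹ = ⁅eSeq x y i, eSeq x y (k + 1)⁆ := by
    rw [← e_succ k hk_ge, comm_swap (eSeq x y i) (eSeq x y (k + 1)), inv_inv]
  -- third term
  have hT3 : Cong Y (t + 2) (⁅⁅x, eSeq x y i⁆, eSeq x y k⁆⁻¹) ⁅eSeq x y (i + 1), eSeq x y k⁆ := by
    have h0 : ⁅x, eSeq x y i⁆ = (eSeq x y (i + 1))⁻¹ := by
      rw [comm_swap (eSeq x y i) x, ← e_succ i hi]
    rw [h0]
    have := (comm_inv_left_cong (Y := Y) (i := i + 1) (j := k) (by omega) (by omega) hei1 hek).inv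
    have e : i + 1 + k = t + 2 := by omega
    rw [e, inv_inv] at this
    exact this
  rw [hT2] at hJ
  have hF : Cong Y (t + 2) (⁅⁅eSeq x y t, y⁆, x⁆ ^ ((-1 : ℤ) ^ i))
      (⁅eSeq x y (i + 1), eSeq x y k⁆ * ⁅eSeq x y i, eSeq x y (k + 1)⁆) :=
    hT1.symm.trans (hJ.trans (Cong.mul hT3 (Cong.refl _ _)))
  have hG := (Cong.mul hF (Cong.refl (t + 2) (⁅eSeq x y (i + 1), eSeq x y k⁆)⁻¹)).trans
    (cong_conj (Y := Y) (D := t + 2) (by omega) hA ⁅eSeq x y (i + 1), eSeq x y k⁆)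
  exact hG.symm

theorem mckeye_aux (h : KeyHyp p n t Y x y) (d : ℕ) : ∀ i : ℕ, i + d = t → 2 ≤ i →
    Cong Y (t + 2) ⁅eSeq x y i, eSeq x y (t + 2 - i)⁆
      (⁅⁅eSeq x y t, y⁆, x⁆ ^ ((-1 : ℤ) ^ i * ((t : ℤ) - i + 1))) := by
  induction d with
  | zero =>
    intro i hid hi
    have hit : i = t := by omega
    subst hit
    have h2 : i + 2 - i = 2 := by omega
    rw [h2]
    have he : ((-1 : ℤ) ^ i * ((i : ℤ) - i + 1)) = 1 := by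
      rw [Even.neg_one_pow (t_even h)]; ring
    rw [he, zpow_one]
    exact comm_et_e2 h
  | succ d ih =>
    intro i hid hi
    have hit : i + 1 ≤ t := by omega
    have hs := comm_e_shift2 h hi hit
    have hI := ih (i + 1) (by omega) (by omega)
    have e1 : t + 2 - (i + 1) = t + 1 - i := by omega
    rw [e1] at hI
    refine hs.trans ?_
    have := Cong.mul (Cong.refl (t + 2) (⁅⁅eSeq x y t, y⁆, x⁆ ^ ((-1 : ℤ) ^ i))) hI.inv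
    refine this.trans ?_
    rw [← zpow_neg, ← zpow_add]
    have he : (-1 : ℤ) ^ i + -((-1 : ℤ) ^ (i + 1) * ((t : ℤ) - ((i + 1 : ℕ) : ℤ) + 1)) =
        (-1 : ℤ) ^ i * ((t : ℤ) - i + 1) := by
      push_cast
      rw [pow_succ]
      ring
    rw [he]
    exact Cong.refl _ _

theorem comm_e_e_t2 (h : KeyHyp p n t Y x y) {i : ℕ} (hi : 2 ≤ i) (hit : i ≤ t) :
    Cong Y (t + 2) ⁅eSeq x y i, eSeq x y (t + 2 - i)⁆
      (⁅⁅eSeq x y t, y⁆, x⁆ ^ ((-1 : ℤ) ^ i * ((t : ℤ) - i + 1))) :=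
  mckeye_aux h (t - i) i (by omega) hi

end Cfsg.Agent.Helper21.MC
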