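import Mathlib
import Cfsg.Prelude.Def_CaseTheorems
import Cfsg.Agent.Lib.MC.MCDefs
import Cfsg.Agent.Lib.MC.MCK
import Cfsg.Agent.Lib.MC.MCCard
import Cfsg.Agent.Lib.MC.MCFrat
import Cfsg.Agent.Lib.MC.MCQuot
import Cfsg.Agent.Lib.MC.MCUnif
import Cfsg.Agent.Lib.MC.MCExp

/-!
# PIECE MC-MAIN: the section `K k / K (2k+1)` and the order bound (medium)

`S` of maximal class of order `p ^ n`, `2 ≤ k`, `2k+1 ≤ n`, `k + 2 ≤ p`.
* `exp_section`, `comm_section`: pass to `Y = S ⧸ K S (2k+1)`, of maximal class of order `p ^ (2k+1)`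
  (`isMC_quotient`); `p ≠ 2` and `2k+1 < 2p+3` as `k + 2 ≤ p`; `exists_uniform`; then `K_exp` (with `i = k`) and
  `K_abelian` in `Y`, and translate back with `mk_mem_K_quotient_iff` (`QuotientGroup.eq_one_iff`,
  `K_quotient`/`K_eq_bot` for `K Y (2k+1) = ⊥`).
* `card_le_of_section`: the `p`-analogue of `Cfsg.Agent.Helper22.card_le_of_sq` (Lib/Helper22/SecRank.lean): apply
  `hr A (B.subgroupOf A) ⊤` to the quotient `A ⧸ B.subgroupOf A`, which is commutative of exponent `p`.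
* `order_bound`: if `2k+1 ≤ n`: for `k = 1` take `A = ⊤`, `B = K S 2` (`pow_p_mem_K_two`, index `p ^ 2`); for `k ≥ 2`
  take `A = K S k`, `B = K S (2k+1)`: `p ^ (n-k) ≤ p ^ k * p ^ (n-2k-1)` is false.  For `n = 2` the claim is trivial.
-/

set_option autoImplicit false

namespace Cfsg.Agent.Helper21.MC

open scoped commutatorElement

variable {S : Type*} [Group S] [Finite S] {p : ℕ} [Fact p.Prime] {n : ℕ}

theorem exp_section (hn : 3 ≤ n) (hS : IsMC p n S) {k : ℕ} (hk : 2 ≤ k) (hnk : 2 * k + 1 ≤ n)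
    (hkp : k + 2 ≤ p) : ∀ a ∈ K S k, a ^ p ∈ K S (2 * k + 1) := by
  have hj3 : 3 ≤ 2 * k + 1 := by omega
  have hj4 : 4 ≤ 2 * k + 1 := by omega
  have hY : IsMC p (2 * k + 1) (S ⧸ K S (2 * k + 1)) := isMC_quotient hn hS (2 * k + 1) hj3 hnk
  have hp2 : p ≠ 2 := by omega
  have hnp : 2 * k + 1 < 2 * p + 3 := by omega
  obtain ⟨s, hs⟩ := exists_uniform hj4 hY hp2 hnp
  intro a ha
  have ha' : (QuotientGroup.mk' (K S (2 * k + 1)) a) ∈ K (S ⧸ K S (2 * k + 1)) k :=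
    (mk_mem_K_quotient_iff (2 * k + 1) k (by omega) a).mpr ha
  have h1 := K_exp hj4 hY hk rfl hkp hs k le_rfl _ ha'
  rw [← map_pow] at h1
  exact (QuotientGroup.eq_one_iff (a ^ p)).mp h1

theorem comm_section (hn : 3 ≤ n) (hS : IsMC p n S) {k : ℕ} (hk : 2 ≤ k) (hnk : 2 * k + 1 ≤ n) :
    ∀ a ∈ K S k, ∀ b ∈ K S k, ⁅a, b⁆ ∈ K S (2 * k + 1) := by
  have hj3 : 3 ≤ 2 * k + 1 := by omega
  have hY : IsMC p (2 * k + 1) (S ⧸ K S (2 * k + 1)) := isMC_quotient hn hS (2 * k + 1) hj3 hnk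
  intro a ha b hb
  have ha' : (QuotientGroup.mk' (K S (2 * k + 1)) a) ∈ K (S ⧸ K S (2 * k + 1)) k :=
    (mk_mem_K_quotient_iff (2 * k + 1) k (by omega) a).mpr ha
  have hb' : (QuotientGroup.mk' (K S (2 * k + 1)) b) ∈ K (S ⧸ K S (2 * k + 1)) k :=
    (mk_mem_K_quotient_iff (2 * k + 1) k (by omega) b).mpr hb
  have h1 := K_abelian hj3 hY hk le_rfl _ ha' _ hb'
  have h2 : (QuotientGroup.mk' (K S (2 * k + 1))) ⁅a, b⁆ = 1 := by
    rw [map_commutatorElement]
    exact commutatorElement_eq_one_iff_commute.mpr h1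
  exact (QuotientGroup.eq_one_iff ⁅a, b⁆).mp h2

theorem card_le_of_section {r : ℕ} (hr : Cfsg.SectionalPRankLE p r S) (A B : Subgroup S)
    (hBA : B ≤ A) (hnorm : A ≤ Subgroup.normalizer (B : Set S))
    (hcomm : ∀ a ∈ A, ∀ b ∈ A, ⁅a, b⁆ ∈ B) (hpow : ∀ a ∈ A, a ^ p ∈ B) :
    Nat.card A ≤ p ^ r * Nat.card B := by
  have hn' : (B.subgroupOf A).Normal := (Subgroup.normal_subgroupOf_iff_le_normalizer hBA).mpr hnorm
  have hq : ∀ q : ↥A ⧸ B.subgroupOf A, q ^ p = 1 := by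
    intro q
    obtain ⟨a, rfl⟩ := QuotientGroup.mk_surjective q
    rw [← QuotientGroup.mk_pow, QuotientGroup.eq_one_iff, Subgroup.mem_subgroupOf]
    exact hpow a a.2
  have hc : ∀ q q' : ↥A ⧸ B.subgroupOf A, q * q' = q' * q := by
    intro q q'
    obtain ⟨a, rfl⟩ := QuotientGroup.mk_surjective q
    obtain ⟨b, rfl⟩ := QuotientGroup.mk_surjective q'
    have h1 : ((⁅a, b⁆ : ↥A) : ↥A ⧸ B.subgroupOf A) = 1 := by
      rw [QuotientGroup.eq_one_iff, Subgroup.mem_subgroupOf]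
      exact hcomm a a.2 b b.2
    have h2 : ⁅(a : ↥A ⧸ B.subgroupOf A), (b : ↥A ⧸ B.subgroupOf A)⁆ = 1 := by
      rw [← h1]
      exact (map_commutatorElement (QuotientGroup.mk' (B.subgroupOf A)) a b).symm
    exact commutatorElement_eq_one_iff_commute.mp h2
  have h1 := hr A (B.subgroupOf A) ⊤ ⟨⟨fun a b => Subtype.ext (hc a b)⟩⟩ (fun a _ => hq a)
  rw [Subgroup.card_top] at h1
  have h2 := Subgroup.card_eq_card_quotient_mul_card_subgroup (B.subgroupOf A)
  have h3 : Nat.card (B.subgroupOf A) = Nat.card B :=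
    Nat.card_congr (Subgroup.subgroupOfEquivOfLe hBA).toEquiv
  rw [h2, h3]
  exact Nat.mul_le_mul_right _ h1

theorem order_bound (hn : 2 ≤ n) (hS : IsMC p n S) {k : ℕ} (hk : 1 ≤ k)
    (hsr : Cfsg.SectionalPRankLE p k S) (hpk : k + 2 ≤ p) : n ≤ 2 * k := by
  by_contra hcon
  have hnk : 2 * k + 1 ≤ n := by omega
  have hn3 : 3 ≤ n := by omega
  have hp : 1 < p := (Fact.out : p.Prime).one_lt
  rcases Nat.lt_or_ge k 2 with hk1 | hk2
  · have hk' : k = 1 := by omega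
    subst hk'
    have h1 := card_le_of_section hsr (⊤ : Subgroup S) (K S 2) le_top
      (by
        have : (K S 2).Normal := inferInstance
        rw [Subgroup.normalizer_eq_top]
      )
      (fun a _ b _ => by
        have ha : a ∈ K S 1 := by rw [K_one]; trivial
        exact comm_mem_succ le_rfl ha b)
      (fun a _ => pow_p_mem_K_two hn3 hS a)
    rw [Subgroup.card_top, hS.1, card_K hn3 hS 2 le_rfl (by omega)] at h1
    have h2 : p ^ 1 * p ^ (n - 2) = p ^ (n - 1) := by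
      rw [← pow_add]; congr 1; omega
    rw [h2] at h1
    have h3 : n ≤ n - 1 := (Nat.pow_le_pow_iff_right hp).mp h1
    omega
  · have h1 := card_le_of_section hsr (K S k) (K S (2 * k + 1)) (K_antitone (by omega))
      (by
        have : (K S (2 * k + 1)).Normal := inferInstance
        rw [Subgroup.normalizer_eq_top]
        exact le_top)
      (comm_section hn3 hS hk2 hnk) (exp_section hn3 hS hk2 hnk hpk)
    rw [card_K hn3 hS k hk2 (by omega), card_K hn3 hS (2 * k + 1) (by omega) hnk] at h1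
    rw [← pow_add] at h1
    have h3 : n - k ≤ k + (n - (2 * k + 1)) := (Nat.pow_le_pow_iff_right hp).mp h1
    omega

end Cfsg.Agent.Helper21.MC
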